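import Cfsg.Agent.PERM.DI.Defs
import Cfsg.Agent.CHAR.Constit
import Cfsg.Agent.CHAR.Values
import Cfsg.Agent.CHAR.PermChar
import Cfsg.Agent.CHAR.PermRank

set_option autoImplicit false
set_option linter.unusedSectionVars false

namespace CL.DI

open Subgroup MulAction
open Cfsg

variable {G : Type*} [Group G] [Fintype G] {R : Subgroup G}

namespace CA

open CL.Char

theorem ti (comm : ∀ a ∈ R, ∀ b ∈ R, a * b = b * a) (cc : ∀ x ∈ R, x ≠ 1 → ∀ g : G, g * x = x * g → g ∈ R)
    {x g : G} (hx : x ∈ R) (x1 : x ≠ 1) (hg : g * x * g⁻¹ ∈ R) : g ∈ normalizer (R : Set G) := by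
  rw [mem_normalizer_iff]
  intro r
  have y1 : g * x * g⁻¹ ≠ 1 := by
    intro h
    apply x1
    have : x = g⁻¹ * (g * x * g⁻¹) * g := by group
    rw [this, h]; group
  constructor
  · intro hr
    apply cc _ hg y1
    have := comm r hr x hx
    calc g * r * g⁻¹ * (g * x * g⁻¹) = g * (r * x) * g⁻¹ := by group
      _ = g * (x * r) * g⁻¹ := by rw [this]
      _ = _ := by group
  · intro hr
    apply cc _ hx x1
    have := comm _ hr _ hg
    calc r * x = g⁻¹ * (g * r * g⁻¹ * (g * x * g⁻¹)) * g := by group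
      _ = g⁻¹ * (g * x * g⁻¹ * (g * r * g⁻¹)) * g := by rw [this]
      _ = _ := by group

open Classical in
theorem sum_sub (H : Subgroup G) (φ : G → ℂ) :
    ∑ x ∈ Finset.univ.filter (fun x : G => x ∈ H), φ x = ∑ x : H, φ x := by
  apply Finset.sum_subtype
  simp

open Classical in
theorem coset_zero {χ : G → ℂ} (hχ : IsCharacter G χ)
    (h0 : ∑ x ∈ Finset.univ.filter (fun x : G => x ∈ R), χ x = 0) (h : G) :
    ∑ x : R, χ (x * h) = 0 := by
  obtain ⟨n, ρ, rfl⟩ := hχ
  rw [sum_sub] at h0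
  set S : Module.End ℂ (Fin n → ℂ) := ∑ x : R, ρ x with hS
  have hc : (Nat.card R : ℂ) ≠ 0 := card_ne_zero R
  have h1 : ∀ y : R, ρ y * S = S := by
    intro y
    rw [hS, Finset.mul_sum]
    refine Fintype.sum_equiv (Equiv.mulLeft y) _ _ ?_
    intro x
    simp
  have h2 : S * S = (Nat.card R : ℂ) • S := by
    conv_lhs => rw [hS, Finset.sum_mul]
    rw [← hS]
    simp only [h1]
    rw [Finset.sum_const, Finset.card_univ, Nat.card_eq_fintype_card, Nat.cast_smul_eq_nsmul]
  have h3 : IsIdempotentElem ((Nat.card R : ℂ)⁻¹ • S) := by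
    unfold IsIdempotentElem
    rw [smul_mul_smul_comm, h2, smul_smul, mul_assoc, inv_mul_cancel₀ hc, mul_one]
  have h4 : LinearMap.trace ℂ _ S = 0 := by
    rw [hS, map_sum]
    exact h0
  have h5 : (Nat.card R : ℂ)⁻¹ • S = 0 := by
    apply LinearMap.IsIdempotentElem.eq_zero_of_trace_eq_zero h3
    rw [map_smul, h4, smul_zero]
  have h6 : S = 0 := by
    rcases smul_eq_zero.1 h5 with h | h
    · exact absurd h (inv_ne_zero hc)
    · exact h
  have h7 : ∑ x : R, ρ.character (x * h) = LinearMap.trace ℂ _ (S * ρ h) := by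
    rw [hS, Finset.sum_mul, map_sum]
    refine Finset.sum_congr rfl fun x _ => ?_
    rw [← map_mul]
    rfl
  rw [h7, h6, zero_mul, map_zero]

theorem deg_le_norm {A : Type*} [Group A] [Fintype A] (hc : ∀ a b : A, a * b = b * a) {θ : A → ℂ}
    (hθ : IsCharacter A θ) : ∃ d m : ℕ, θ 1 = d ∧ classInner θ θ = m ∧ d ≤ m := by
  obtain ⟨n, -, hn⟩ := hθ.exists_nat_coeffs
  refine ⟨∑ χ, n χ, ∑ χ, n χ ^ 2, ?_, ?_, ?_⟩
  · rw [hn, Finset.sum_apply, Nat.cast_sum]
    refine Finset.sum_congr rfl fun χ _ => ?_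
    rw [Pi.smul_apply, χ.2.one_eq_one_of_comm hc, smul_eq_mul, mul_one]
  · rw [hn]
    exact inner_self_sum_irr n
  · exact Finset.sum_le_sum fun χ _ => Nat.le_self_pow (by norm_num) _

end CA

open CL.Char CA

open Classical in
/-- **Sums over the conjugates of `R#`.** PROOF. `R` is a TI-set: if `x` and `g x g⁻¹` lie in `R#` then `R = C(x)` and
`R = C(g x g⁻¹)`, so `g ∈ N(R)`. Count the pairs `(g, x) ∈ G × R#` by the value `g x g⁻¹`: each value occurs `|N(R)|` times. -/
theorem ti_sum (comm : ∀ a ∈ R, ∀ b ∈ R, a * b = b * a) (cc : ∀ x ∈ R, x ≠ 1 → ∀ g : G, g * x = x * g → g ∈ R)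
    {φ : G → ℂ} (hφ : IsClassFunction G φ) :
    ∑ g ∈ Finset.univ.filter (fun g : G => ∃ x ∈ R, x ≠ 1 ∧ IsConj x g), φ g =
      ((normalizer (R : Set G)).index : ℂ) * ∑ x ∈ Finset.univ.filter (fun x : G => x ∈ R ∧ x ≠ 1), φ x := by
  set N := normalizer (R : Set G) with hN
  have hcN : (Nat.card N : ℂ) ≠ 0 := card_ne_zero N
  apply mul_left_cancel₀ hcN
  rw [← mul_assoc, ← Nat.cast_mul, card_mul_index]
  have e1 : (Nat.card G : ℂ) * ∑ x ∈ Finset.univ.filter (fun x : G => x ∈ R ∧ x ≠ 1), φ x =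
      ∑ g : G, ∑ y : G, if g⁻¹ * y * g ∈ R ∧ y ≠ 1 then φ y else 0 := by
    rw [Nat.card_eq_fintype_card, ← Finset.card_univ, ← nsmul_eq_mul, ← Finset.sum_const]
    refine Finset.sum_congr rfl fun g _ => ?_
    rw [Finset.sum_filter]
    refine Fintype.sum_equiv (MulAut.conj g).toEquiv _ _ ?_
    intro x
    have a1 : g⁻¹ * (g * x * g⁻¹) * g = x := by group
    have a2 : g * x * g⁻¹ ≠ 1 ↔ x ≠ 1 := by simp
    simp only [MulEquiv.toEquiv_eq_coe, EquivLike.coe_coe, MulAut.conj_apply, a1, a2, hφ x g]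
  rw [e1, Finset.sum_comm, Finset.sum_filter, Finset.mul_sum]
  refine Finset.sum_congr rfl fun y _ => ?_
  split_ifs with hy
  · obtain ⟨x, hx, x1, hxy⟩ := hy
    obtain ⟨c, rfl⟩ := isConj_iff.1 hxy
    have y1 : c * x * c⁻¹ ≠ 1 := by simpa using x1
    rw [← Finset.sum_filter, Finset.sum_const, nsmul_eq_mul]
    congr 1
    rw [Nat.card_eq_fintype_card, Fintype.card_subtype]
    congr 1
    symm
    apply Finset.card_bij (fun g _ => c⁻¹ * g)
    · intro g hg
      simp only [Finset.mem_filter, Finset.mem_univ, true_and] at hg ⊢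
      have : (c⁻¹ * g)⁻¹ ∈ N := by
        apply ti comm cc hx x1
        have e : (c⁻¹ * g)⁻¹ * x * (c⁻¹ * g)⁻¹⁻¹ = g⁻¹ * (c * x * c⁻¹) * g := by group
        rw [e]; exact hg.1
      exact (inv_mem_iff).1 this
    · intro a _ b _ h
      exact mul_left_cancel h
    · intro g hg
      simp only [Finset.mem_filter, Finset.mem_univ, true_and] at hg ⊢
      refine ⟨c * g, ⟨?_, y1⟩, by group⟩
      have e : (c * g)⁻¹ * (c * x * c⁻¹) * (c * g) = g⁻¹ * x * g⁻¹⁻¹ := by group
      rw [e]
      exact (mem_normalizer_iff.1 (inv_mem hg) x).1 hx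
  · rw [mul_zero]
    symm
    apply Finset.sum_eq_zero
    intro g _
    rw [if_neg]
    rintro ⟨h1, h2⟩
    apply hy
    refine ⟨_, h1, ?_, ?_⟩
    · intro h
      apply h2
      have : y = g * (g⁻¹ * y * g) * g⁻¹ := by group
      rw [this, h]; group
    · exact isConj_iff.2 ⟨g, by group⟩

open Classical in
/-- **Degrees are at least `|N(R) : R|`.** PROOF. `N = N(R)`. For `h ∈ N \ R` the map `x ↦ x h x⁻¹ h⁻¹` of `R` is injective
(`cc`), so onto: all elements of `R h` are conjugate to `h`, `|R| χ(h) = ∑_{x ∈ R} χ(x h) = tr (S ρ(h))` with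
`S = ∑_{x ∈ R} ρ(x)`. `S² = |R| S` and `tr S = 0` give `S = 0` (`|R|⁻¹ S` is a projection of trace `0`), so `χ(h) = 0`.
(Or: no irreducible constituent of `χ_N` has `R` in its kernel, and column orthogonality in `N` and `N / R`.) Hence
`1 ≤ ⟨χ_N, χ_N⟩ = |R| f / |N|`. -/
theorem deg_le (cc : ∀ x ∈ R, x ≠ 1 → ∀ g : G, g * x = x * g → g ∈ R) {χ : G → ℂ} (hχ : IsCharacter G χ) {f : ℕ}
    (hf : χ 1 = f) (f0 : 0 < f) (h0 : ∑ x ∈ Finset.univ.filter (fun x : G => x ∈ R), χ x = 0)
    (h2 : ∑ x ∈ Finset.univ.filter (fun x : G => x ∈ R), χ x * (starRingEnd ℂ) (χ x) = (Nat.card R : ℂ) * f) :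
    R.relIndex (normalizer (R : Set G)) ≤ f := by
  set N := normalizer (R : Set G) with hN
  have hcR : (Nat.card R : ℂ) ≠ 0 := card_ne_zero R
  have hz : ∀ h ∈ N, h ∉ R → χ h = 0 := by
    intro h hh hR
    let F : R → R := fun x => ⟨x * (h * (x : G)⁻¹ * h⁻¹), mul_mem x.2 ((mem_normalizer_iff.1 hh _).1 (inv_mem x.2))⟩
    have Fi : Function.Injective F := by
      intro x y hxy
      have e : (x : G) * (h * (x : G)⁻¹ * h⁻¹) = y * (h * (y : G)⁻¹ * h⁻¹) := congrArg Subtype.val hxy
      by_contra hne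
      apply hR
      apply cc ((y : G)⁻¹ * x) (mul_mem (inv_mem y.2) x.2)
      · intro h1
        apply hne
        ext
        exact (inv_mul_eq_one.1 h1).symm
      · calc h * ((y : G)⁻¹ * x) = (y : G)⁻¹ * (y * (h * (y : G)⁻¹ * h⁻¹)) * h * x := by group
          _ = (y : G)⁻¹ * (x * (h * (x : G)⁻¹ * h⁻¹)) * h * x := by rw [e]
          _ = _ := by group
    have Fb : Function.Bijective F := Finite.injective_iff_bijective.1 Fi
    have e1 := coset_zero hχ h0 h
    rw [← Fb.sum_comp] at e1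
    have e2 : ∀ x : R, χ ((F x : G) * h) = χ h := by
      intro x
      have : (F x : G) * h = x * h * (x : G)⁻¹ := by simp only [F]; group
      rw [this, hχ.isClassFunction]
    simp only [e2] at e1
    rw [Finset.sum_const, Finset.card_univ, ← Nat.card_eq_fintype_card, nsmul_eq_mul] at e1
    exact (mul_eq_zero.1 e1).resolve_left hcR
  have hne : (fun x : N => χ x) ≠ 0 := by
    intro h
    have := congrFun h 1
    simp only [OneMemClass.coe_one, Pi.zero_apply, hf, Nat.cast_eq_zero] at this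
    omega
  obtain ⟨m, m0, hm⟩ := (hχ.res N).exists_pos_inner_self hne
  have e := card_mul_classInner (fun x : N => χ x) (fun x : N => χ x)
  rw [hm, ← sum_sub N (fun x => χ x * (starRingEnd ℂ) (χ x))] at e
  have e3 : ∑ x ∈ Finset.univ.filter (fun x : G => x ∈ N), χ x * (starRingEnd ℂ) (χ x) =
      ∑ x ∈ Finset.univ.filter (fun x : G => x ∈ R), χ x * (starRingEnd ℂ) (χ x) := by
    symm
    apply Finset.sum_subset
    · intro x hx
      simp only [Finset.mem_filter, Finset.mem_univ, true_and] at hx ⊢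
      exact le_normalizer hx
    · intro x hx hx'
      simp only [Finset.mem_filter, Finset.mem_univ, true_and] at hx hx'
      rw [hz x hx hx', zero_mul]
  rw [e3, h2] at e
  have e4 : Nat.card N * m = Nat.card R * f := by exact_mod_cast e
  have e5 : Nat.card R * R.relIndex N = Nat.card N := by
    have := card_mul_index (R.subgroupOf N)
    rw [Nat.card_congr (subgroupOfEquivOfLe (le_normalizer : R ≤ N)).toEquiv] at this
    exact this
  have hp : 0 < Nat.card R := Nat.card_pos
  apply Nat.le_of_mul_le_mul_left _ hp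
  rw [e5, ← e4]
  exact Nat.le_mul_of_pos_right _ m0

open Classical in
/-- **Constituents of a permutation character with a regular abelian subgroup.** PROOF. `π = 1 + ψ`, `ψ` a character (transitive
action), a sum of irreducible characters `χ i`, `i ∈ Fin t`, none trivial. `π_R` is the regular character, so `⟨ψ_R, 1⟩ = 0` and
`⟨ψ_R, ψ_R⟩ = n - 1 = ∑ χ i 1`. The numbers `⟨(χ i)_R, (χ j)_R⟩` are natural numbers, and `⟨θ, θ⟩ ≥ θ 1` for a character `θ` of
an abelian group (`∑ m² ≥ ∑ m`). So the diagonal terms are `χ i 1` and the others vanish; in particular the `χ i` are distinct.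
`t ≥ 2`: `1 + t = ⟨π, π⟩` is the number of orbits on pairs, which is at least `3` by `h3`. -/
theorem constit {Ω : Type*} [MulAction G Ω] [Finite Ω] (comm : ∀ a ∈ R, ∀ b ∈ R, a * b = b * a)
    (tr : ∀ a b : Ω, ∃ g ∈ R, g • a = b) (free : ∀ g ∈ R, ∀ a : Ω, g • a = a → g = 1)
    (h3 : ∃ a b c : Ω, b ≠ a ∧ c ≠ a ∧ ∀ g : G, g • a = a → g • b ≠ c) :
    ∃ (t : ℕ) (χ : Fin t → G → ℂ), 2 ≤ t ∧ (∀ i, IsIrrCharacter G (χ i)) ∧ Function.Injective χ ∧ (∀ i, χ i ≠ 1) ∧
      (∀ g, (Nat.card (fixedBy Ω g) : ℂ) = 1 + ∑ i, χ i g) ∧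
      (∀ i, ∑ x ∈ Finset.univ.filter (fun x : G => x ∈ R), χ i x = 0) ∧
      ∀ i j, ∑ x ∈ Finset.univ.filter (fun x : G => x ∈ R), χ i x * (starRingEnd ℂ) (χ j x) =
        if i = j then (Nat.card R : ℂ) * χ i 1 else 0 := by
  obtain ⟨a, b, c, hb, hc, habc⟩ := h3
  haveI : Nonempty Ω := ⟨a⟩
  haveI : Nontrivial Ω := ⟨⟨b, a, hb⟩⟩
  haveI : IsPretransitive G Ω := ⟨fun x y => by obtain ⟨g, -, hg⟩ := tr x y; exact ⟨g, hg⟩⟩
  have hψ := isCharacter_perm_sub_one (G := G) Ω
  obtain ⟨l, hl, hsum⟩ := hψ.exists_list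
  have hcR : (Nat.card R : ℂ) ≠ 0 := card_ne_zero R
  have hΩ : Nat.card Ω = Nat.card R := by
    symm
    apply Nat.card_congr
    refine Equiv.ofBijective (fun x : R => (x : G) • a) ⟨?_, ?_⟩
    · intro x y h
      have h' : (x : G) • a = (y : G) • a := h
      have := free ((y : G)⁻¹ * x) (mul_mem (inv_mem y.2) x.2) a (by rw [mul_smul, h', inv_smul_smul])
      ext
      exact (inv_mul_eq_one.1 this).symm
    · intro y
      obtain ⟨g, hg, e⟩ := tr a y
      exact ⟨⟨g, hg⟩, e⟩
  let χ : Fin l.length → G → ℂ := fun i => l.get i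
  have hirr : ∀ i, IsIrrCharacter G (χ i) := fun i => hl _ (List.get_mem l i)
  have hs : ∀ g, (Nat.card (fixedBy Ω g) : ℂ) - 1 = ∑ i, χ i g := by
    intro g
    have := congrFun hsum g
    rw [this, ← Finset.sum_apply]
    exact congrFun (Fin.sum_univ_getElem l).symm g
  -- the restriction to `R`
  let θ : Fin l.length → R → ℂ := fun i x => χ i x
  have hθ : ∀ i, IsCharacter R (θ i) := fun i => (hirr i).isCharacter.res R
  have hval : ∀ x : R, (∑ i, θ i) x = (if x = 1 then (Nat.card R : ℂ) else 0) - 1 := by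
    intro x
    rw [Finset.sum_apply]
    simp only [θ]
    rw [← hs]
    congr 1
    split_ifs with h
    · subst h
      rw [← hΩ]
      simp
    · have : IsEmpty (fixedBy Ω (x : G)) := ⟨fun y => h (Subtype.ext (free _ x.2 y.1 y.2))⟩
      simp
  have i1 : classInner (∑ i, θ i) 1 = 0 := by
    rw [classInner_one_right]
    simp only [hval]
    rw [Finset.sum_sub_distrib]
    simp [Nat.card_eq_fintype_card]
  have i2 : classInner (∑ i, θ i) (∑ i, θ i) = (Nat.card R : ℂ) - 1 := by
    apply mul_left_cancel₀ hcR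
    rw [card_mul_classInner]
    have : ∀ x : R, (∑ i, θ i) x * (starRingEnd ℂ) ((∑ i, θ i) x) =
        (if x = 1 then (Nat.card R : ℂ) ^ 2 - 2 * Nat.card R else 0) + 1 := by
      intro x
      rw [hval]
      split_ifs
      · simp only [map_sub, map_natCast, map_one]; ring
      · simp
    simp only [this]
    rw [Finset.sum_add_distrib]
    simp only [Finset.sum_ite_eq', Finset.mem_univ, if_true, Finset.sum_const, Finset.card_univ,
      ← Nat.card_eq_fintype_card, nsmul_eq_mul]
    ring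
  have i3 : ∑ i, θ i 1 = (Nat.card R : ℂ) - 1 := by
    rw [← Finset.sum_apply, hval, if_pos rfl]
  choose k hk using fun i => (hθ i).exists_nat_inner (isCharacter_one' (G := R))
  choose m hm using fun i j => (hθ i).exists_nat_inner (hθ j)
  have hcomm : ∀ x y : R, x * y = y * x := fun x y => Subtype.ext (comm _ x.2 _ y.2)
  choose d m' hd hm' hdm using fun i => deg_le_norm hcomm (hθ i)
  have mm : ∀ i, m' i = m i i := fun i => by exact_mod_cast (hm' i).symm.trans (hm i i)
  have k0 : ∀ i, k i = 0 := by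
    rw [classInner_sum_left] at i1
    simp only [hk] at i1
    have : ∑ i, k i = 0 := by exact_mod_cast i1
    intro i
    exact (Finset.sum_eq_zero_iff.1 this) i (Finset.mem_univ i)
  have tot : ∑ i, ∑ j, m i j = ∑ i, d i := by
    rw [classInner_sum_left] at i2
    simp only [classInner_sum_right, hm] at i2
    simp only [hd] at i3
    exact_mod_cast i2.trans i3.symm
  have row : ∀ i, ∑ j, m i j = d i := by
    have le : ∀ i ∈ Finset.univ, d i ≤ ∑ j, m i j := fun i _ =>
      (hdm i).trans ((mm i).le.trans (Finset.single_le_sum (f := fun j => m i j) (fun _ _ => Nat.zero_le _)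
        (Finset.mem_univ i)))
    intro i
    exact ((Finset.sum_eq_sum_iff_of_le le).1 tot.symm i (Finset.mem_univ i)).symm
  have ent : ∀ i j, m i j = if i = j then d i else 0 := by
    intro i j
    have r := row i
    rw [← Finset.add_sum_erase _ _ (Finset.mem_univ i)] at r
    have := hdm i
    rw [mm] at this
    split_ifs with h
    · subst h; omega
    · have z : ∑ j ∈ Finset.univ.erase i, m i j = 0 := by omega
      exact Finset.sum_eq_zero_iff.1 z j (by simp [Ne.symm h])
  have dpos : ∀ i, d i ≠ 0 := by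
    intro i h
    apply (hirr i).one_ne_zero
    have := hd i
    rw [h] at this
    simpa [θ] using this
  have z1 : ∀ i, ∑ x ∈ Finset.univ.filter (fun x : G => x ∈ R), χ i x = 0 := by
    intro i
    rw [sum_sub]
    have := hk i
    rw [classInner_one_right, k0, Nat.cast_zero] at this
    exact (mul_eq_zero.1 this).resolve_left (inv_ne_zero hcR)
  refine ⟨l.length, χ, ?_, hirr, ?_, ?_, ?_, z1, ?_⟩
  · by_contra hlt
    have hl0 : l.length ≠ 0 := by
      intro h0
      have : IsEmpty (Fin l.length) := by rw [h0]; infer_instance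
      have e := hs 1
      rw [Finset.univ_eq_empty, Finset.sum_empty, sub_eq_zero] at e
      have e' : Nat.card (fixedBy Ω (1 : G)) = 1 := by exact_mod_cast e
      rw [fixedBy_one_eq_univ, Nat.card_congr (Equiv.Set.univ Ω)] at e'
      have := Finite.one_lt_card (α := Ω)
      omega
    have hl1 : l.length = 1 := by omega
    obtain ⟨x, hx⟩ := List.length_eq_one_iff.1 hl1
    have hi : IsIrrCharacter G (fun g => (Nat.card (fixedBy Ω g) : ℂ) - 1) := by
      rw [hsum, hx, List.sum_singleton]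
      exact hl x (by simp [hx])
    have h2 := (isIrr_perm_sub_one_iff (G := G) Ω).1 hi
    obtain ⟨g, g1, g2⟩ := is_two_pretransitive_iff.1 h2 hb.symm hc.symm
    exact habc g g1 g2
  · intro i j hij
    by_contra hne
    have e : θ j = θ i := by simp only [θ, hij]
    have e1 := hm i j
    rw [e, hm i i, ent, ent, if_pos rfl, if_neg hne] at e1
    exact dpos i (by exact_mod_cast e1)
  · intro i h
    have := z1 i
    rw [h, sum_sub] at this
    simp only [Pi.one_apply, Finset.sum_const, Finset.card_univ, ← Nat.card_eq_fintype_card, nsmul_eq_mul,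
      mul_one] at this
    exact hcR this
  · intro g
    rw [← hs]; ring
  · intro i j
    rw [sum_sub R (fun x => χ i x * (starRingEnd ℂ) (χ j x))]
    have := card_mul_classInner (θ i) (θ j)
    rw [hm, ent] at this
    refine this.symm.trans ?_
    split_ifs with h
    · rw [← hd i]; rfl
    · simp

end CL.DI
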