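import Cfsg.Agent.PERM.DI.Defs
import Cfsg.Agent.CHAR.Constit
import Cfsg.Agent.CHAR.Values
import Cfsg.Agent.CHAR.PermRank

/-! Constituents of a permutation character with a regular abelian subgroup. -/

set_option autoImplicit false
set_option linter.unusedSectionVars false

namespace CL.DI.CA2

open Subgroup MulAction
open Cfsg CL.Char

variable {G : Type*} [Group G] [Fintype G] {R : Subgroup G}

open Classical in
theorem sum_R (f : G → ℂ) : ∑ x ∈ Finset.univ.filter (fun x : G => x ∈ R), f x = ∑ x : R, f x :=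
  Finset.sum_subtype _ (fun x => by simp) f

open Classical in
theorem constit {Ω : Type*} [MulAction G Ω] [Finite Ω] (comm : ∀ a ∈ R, ∀ b ∈ R, a * b = b * a)
    (tr : ∀ a b : Ω, ∃ g ∈ R, g • a = b) (free : ∀ g ∈ R, ∀ a : Ω, g • a = a → g = 1)
    (h3 : ∃ a b c : Ω, b ≠ a ∧ c ≠ a ∧ ∀ g : G, g • a = a → g • b ≠ c) :
    ∃ (t : ℕ) (χ : Fin t → G → ℂ), 2 ≤ t ∧ (∀ i, IsIrrCharacter G (χ i)) ∧ Function.Injective χ ∧ (∀ i, χ i ≠ 1) ∧
      (∀ g, (Nat.card (fixedBy Ω g) : ℂ) = 1 + ∑ i, χ i g) ∧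
      (∀ i, ∑ x ∈ Finset.univ.filter (fun x : G => x ∈ R), χ i x = 0) ∧
      ∀ i j, ∑ x ∈ Finset.univ.filter (fun x : G => x ∈ R), χ i x * (starRingEnd ℂ) (χ j x) =
        if i = j then (Nat.card R : ℂ) * χ i 1 else 0 := by
  obtain ⟨a, b, c, ba, ca, h3⟩ := h3
  have : Nontrivial Ω := ⟨b, a, ba⟩
  have : IsPretransitive G Ω := ⟨fun x y => (tr x y).imp fun g h => h.2⟩
  have : IsMulCommutative R := ⟨⟨fun x y => Subtype.ext (comm x x.2 y y.2)⟩⟩
  have cR : (Nat.card R : ℂ) ≠ 0 := card_ne_zero R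
  have cΩ : Nat.card Ω = Nat.card R := (Nat.card_congr (Equiv.ofBijective (fun x : R => (x : G) • a)
    ⟨fun x y e => Subtype.ext (inv_mul_eq_one.1 (free _ (mul_mem (inv_mem x.2) y.2) a (by
      have e' : (x : G) • a = (y : G) • a := e
      rw [mul_smul, ← e', inv_smul_smul]))), fun y => by
      obtain ⟨g, hg, e⟩ := tr a y
      exact ⟨⟨g, hg⟩, e⟩⟩)).symm
  have p1 : Nat.card (fixedBy Ω (1 : G)) = Nat.card R := by rw [fixedBy_one_eq_univ, Nat.card_univ, cΩ]
  have p0 : ∀ x : R, x ≠ 1 → Nat.card (fixedBy Ω (x : G)) = 0 := fun x hx => by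
    have : IsEmpty (fixedBy Ω (x : G)) := ⟨fun y => hx (Subtype.ext (free _ x.2 y.1 y.2))⟩
    exact Nat.card_of_isEmpty
  obtain ⟨n, -, hn⟩ := (isCharacter_perm_sub_one (G := G) Ω).exists_nat_coeffs
  choose m hm hm' using fun χ : IrrCharacter G => (χ.2.isCharacter.res R).exists_nat_coeffs
  have key : ∀ l : IrrCharacter R, ((∑ χ, n χ * m χ l : ℕ) : ℂ) = 1 - classInner 1 l.1 := fun l => by
    have e : (fun x : R => (Nat.card (fixedBy Ω (x : G)) : ℂ)) - 1 =
        ∑ χ : IrrCharacter G, (n χ : ℂ) • fun x : R => χ.1 x := by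
      funext x
      simpa [Finset.sum_apply] using congrFun hn x
    have e2 := congrArg (fun f => classInner f l.1) e
    simp only [classInner_sub_left, classInner_sum_left, classInner_smul_left, hm] at e2
    push_cast
    rw [← e2, classInner_def, Finset.sum_eq_single 1 (fun x _ hx => by simp [p0 x hx]) (by simp), coe_one, p1,
      l.2.apply_one_of_isMulCommutative, map_one, mul_one, inv_mul_cancel₀ cR]
  have k0 : ∑ χ, n χ * m χ ⟨1, isIrrCharacter_one'⟩ = 0 := by
    have := key ⟨1, isIrrCharacter_one'⟩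
    rw [classInner_one_one, sub_self] at this
    exact_mod_cast this
  have k1 : ∀ l, ∑ χ, n χ * m χ l ≤ 1 := fun l => by
    by_cases e : l = ⟨1, isIrrCharacter_one'⟩
    · rw [e, k0]
      exact zero_le_one
    · have := key l
      rw [isIrrCharacter_one'.inner_of_ne l.2 (fun h => e (Subtype.ext h.symm)), sub_zero] at this
      exact le_of_eq (by exact_mod_cast this)
  have dg : ∀ χ : IrrCharacter G, χ.1 1 = ((∑ l, m χ l : ℕ) : ℂ) := fun χ => by
    have := congrFun (hm' χ) 1
    simpa [Finset.sum_apply, fun l : IrrCharacter R => l.2.apply_one_of_isMulCommutative] using this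
  have s1 : ∀ χ l, n χ * m χ l ≤ 1 := fun χ l =>
    (Finset.single_le_sum (f := fun χ => n χ * m χ l) (fun _ _ => Nat.zero_le _) (Finset.mem_univ χ)).trans (k1 l)
  have n1 : ∀ χ, n χ ≠ 0 → n χ = 1 := fun χ h => by
    obtain ⟨l, hl⟩ : ∃ l, m χ l ≠ 0 := by
      by_contra! hc
      exact χ.2.one_ne_zero (by simp [dg, hc])
    have := s1 χ l
    have h1 := Nat.le_mul_of_pos_right (n χ) (Nat.pos_of_ne_zero hl)
    omega
  let T := Finset.univ.filter fun χ => n χ ≠ 0
  obtain ⟨t, ⟨e⟩⟩ : ∃ t, Nonempty (Fin t ≃ T) := ⟨_, ⟨T.equivFin.symm⟩⟩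
  have eT : ∀ i, n (e i).1 = 1 := fun i => n1 _ (Finset.mem_filter.1 (e i).2).2
  have dec : ∀ g, (Nat.card (fixedBy Ω g) : ℂ) - 1 = ∑ i, (e i).1.1 g := fun g => by
    rw [e.sum_comp (fun χ : T => χ.1.1 g), Finset.sum_coe_sort T (fun χ => χ.1 g), congrFun hn g, Finset.sum_apply,
      Finset.sum_filter]
    refine Finset.sum_congr rfl fun χ _ => ?_
    split_ifs with h
    · simp [n1 χ h]
    · simp [not_not.1 h]
  have z0 : ∀ i, ∑ x ∈ Finset.univ.filter (fun x : G => x ∈ R), (e i).1.1 x = 0 := fun i => by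
    have h1 := (Finset.sum_eq_zero_iff.1 k0) (e i).1 (Finset.mem_univ _)
    rw [eT, one_mul] at h1
    have h2 := hm (e i).1 ⟨1, isIrrCharacter_one'⟩
    rw [h1, classInner_def] at h2
    rw [sum_R]
    simpa [cR] using h2
  refine ⟨t, fun i => (e i).1.1, ?_, fun i => (e i).1.2, fun i j h => e.injective (Subtype.ext (Subtype.ext h)),
    fun i h => cR ?_, fun g => by rw [← dec]; ring, z0, fun i j => ?_⟩
  · by_contra! lt
    interval_cases t
    · have := dec 1
      rw [p1, ← cΩ, Finset.univ_eq_empty, Finset.sum_empty, sub_eq_zero] at this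
      exact Finite.one_lt_card.ne' (by exact_mod_cast this)
    · have h2 := (isIrr_perm_sub_one_iff (G := G) Ω).1 (by
        rw [show (fun g : G => (Nat.card (fixedBy Ω g) : ℂ) - 1) = (e 0).1.1 from funext fun g => by rw [dec, Fin.sum_univ_one]]
        exact (e 0).1.2)
      obtain ⟨g, g1, g2⟩ := is_two_pretransitive_iff.1 h2 ba.symm ca.symm
      exact h3 g g1 g2
  · have := z0 i
    have h' : (e i).1.1 = 1 := h
    rw [h', sum_R] at this
    simp at this
  · rw [sum_R (fun x => (e i).1.1 x * (starRingEnd ℂ) ((e j).1.1 x)),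
      ← card_mul_classInner (fun x : R => (e i).1.1 x) (fun x : R => (e j).1.1 x),
      inner_eq_sum_of_right _ ((e j).1.2.isClassFunction.res R)]
    simp only [hm, map_natCast]
    split_ifs with h
    · subst h
      rw [dg]
      push_cast
      refine congrArg _ (Finset.sum_congr rfl fun l _ => ?_)
      have := s1 (e i).1 l
      rw [eT, one_mul] at this
      interval_cases m (e i).1 l <;> simp
    · refine mul_eq_zero_of_right _ (Finset.sum_eq_zero fun l _ => ?_)
      have := (Finset.add_le_sum (f := fun χ => n χ * m χ l) (fun _ _ => Nat.zero_le _) (Finset.mem_univ (e i).1)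
        (Finset.mem_univ (e j).1) (fun h' => h (e.injective (Subtype.ext h')))).trans (k1 l)
      simp only [eT, one_mul] at this
      rcases (by omega : m (e i).1 l = 0 ∨ m (e j).1 l = 0) with h | h <;> simp [h]

end CL.DI.CA2
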