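import Cfsg.Agent.PERM.DI.CA
import Cfsg.Agent.CHAR.Quot

set_option autoImplicit false
set_option linter.unusedSectionVars false

namespace CL.DI

open Subgroup MulAction
open Cfsg

namespace CB

variable {G : Type*} [Group G] [Fintype G] {R : Subgroup G}

open Classical in
theorem sumT (comm : ∀ a ∈ R, ∀ b ∈ R, a * b = b * a) (cc : ∀ x ∈ R, x ≠ 1 → ∀ g : G, g * x = x * g → g ∈ R)
    {φ : G → ℂ} (hφ : IsClassFunction G φ) :
    ∑ g ∈ Finset.univ.filter (fun g : G => ¬ ∃ x ∈ R, x ≠ 1 ∧ IsConj x g), φ g = ∑ g, φ g -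
      ((normalizer (R : Set G)).index : ℂ) * (∑ x ∈ Finset.univ.filter (fun x : G => x ∈ R), φ x - φ 1) := by
  have e : Finset.univ.filter (fun x : G => x ∈ R ∧ x ≠ 1) = (Finset.univ.filter (fun x : G => x ∈ R)).erase 1 := by
    ext x
    simp [and_comm]
  rw [← Finset.sum_filter_add_sum_filter_not Finset.univ (fun g : G => ∃ x ∈ R, x ≠ 1 ∧ IsConj x g), ti_sum comm cc hφ, e,
    ← Finset.add_sum_erase (Finset.univ.filter (fun x : G => x ∈ R)) φ (a := 1) (by simp)]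
  ring

theorem sq {T : Finset G} (u v : G → ℂ) (p q : ℝ) :
    ((∑ g ∈ T, Complex.normSq (q * u g - p * v g) : ℝ) : ℂ) =
      q ^ 2 * ∑ g ∈ T, u g * (starRingEnd ℂ) (u g) - p * q * ∑ g ∈ T, u g * (starRingEnd ℂ) (v g) -
        p * q * ∑ g ∈ T, v g * (starRingEnd ℂ) (u g) + p ^ 2 * ∑ g ∈ T, v g * (starRingEnd ℂ) (v g) := by
  rw [Complex.ofReal_sum, Finset.mul_sum, Finset.mul_sum, Finset.mul_sum, Finset.mul_sum, ← Finset.sum_sub_distrib,
    ← Finset.sum_sub_distrib, ← Finset.sum_add_distrib]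
  refine Finset.sum_congr rfl fun g _ => ?_
  rw [← Complex.mul_conj, map_sub, map_mul, map_mul, Complex.conj_ofReal, Complex.conj_ofReal]
  ring

theorem fin {T : Finset G} {a : G → ℤ} {e σ : ℤ} (e0 : 0 < e) (h1 : (1 : G) ∈ T) (a1 : a 1 = e)
    (l : ∀ g ∈ T, 0 ≤ a g) (u : ∀ g ∈ T, a g ≤ e) (o : ∀ g ∈ T, a g = e → g = 1)
    (s1 : ∑ g ∈ T, a g = σ * e) (s2 : ∑ g ∈ T, a g * a g = σ * e ^ 2) : σ = 1 := by
  have z : ∑ g ∈ T, a g * (e - a g) = 0 := by
    simp only [mul_sub, Finset.sum_sub_distrib, ← Finset.sum_mul, s1, s2]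
    ring
  have z' := (Finset.sum_eq_zero_iff_of_nonneg fun g hg => mul_nonneg (l g hg) (sub_nonneg.2 (u g hg))).1 z
  rw [Finset.sum_eq_single_of_mem 1 h1 fun g hg n =>
    (mul_eq_zero.1 (z' g hg)).resolve_right fun k => n (o g hg (sub_eq_zero.1 k).symm), a1] at s1
  exact (mul_right_cancel₀ e0.ne' (s1.symm.trans (one_mul e).symm))

end CB

/-- **A regular abelian CC-subgroup of a group of rank at least three is normal.** PROOF. `n = |R| = |Ω|`, `e = |N(R) : R|`,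
`σ = |G : N(R)|`, `|G| = σ n e`; `T` = the elements not conjugate into `R#` (`1 ∈ T`). Take the `χ i` of `constit`, of degrees
`f i ≥ e` (`deg_le`). Orthogonality in `G` and `ti_sum` give `∑_T χ i = σ f i`, `∑_T |χ i|² = σ (f i² - n (f i - e))`,
`∑_T χ i conj (χ j) = σ f i f j` (`i ≠ j`). For `i ≠ j`,
`0 ≤ ∑_T |f j χ i - f i χ j|² = -σ n (f j² (f i - e) + f i² (f j - e)) ≤ 0`, so all `f i = e`, `t e = n - 1`, and the `χ i` agree
on `T`. For `y ∈ T`, `a(y) = χ 0 y = (π(y) - 1) / t` is a rational algebraic integer, so an integer; `a(y) ≥ -1/t` gives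
`a(y) ≥ 0`; `a(y) ≤ e`, with equality only if `π(y) = n`, `y = 1`. `∑_T a (e - a) = σ e² - σ e² = 0` forces `a(y) = 0` for
`1 ≠ y ∈ T`, so `σ e = ∑_T a = e`, `σ = 1`. -/
theorem cc_normal {G Ω : Type*} [Group G] [Finite G] [MulAction G Ω] [Finite Ω] [FaithfulSMul G Ω] {R : Subgroup G}
    (comm : ∀ a ∈ R, ∀ b ∈ R, a * b = b * a) (tr : ∀ a b : Ω, ∃ g ∈ R, g • a = b)
    (free : ∀ g ∈ R, ∀ a : Ω, g • a = a → g = 1) (cc : ∀ x ∈ R, x ≠ 1 → ∀ g : G, g * x = x * g → g ∈ R)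
    (h3 : ∃ a b c : Ω, b ≠ a ∧ c ≠ a ∧ ∀ g : G, g • a = a → g • b ≠ c) : R.Normal := by
  classical
  have := Fintype.ofFinite G
  obtain ⟨t, χ, t2, irr, inj, ne, fx, s0, s2⟩ := constit (Ω := Ω) comm tr free h3
  choose f f0 hf using fun i => (irr i).exists_pos_degree
  obtain ⟨e, he⟩ : ∃ e, e = R.relIndex (normalizer (R : Set G)) := ⟨_, rfl⟩
  obtain ⟨σ, hσ⟩ : ∃ σ, σ = (normalizer (R : Set G)).index := ⟨_, rfl⟩
  obtain ⟨n, hn⟩ : ∃ n, n = Nat.card R := ⟨_, rfl⟩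
  have cG : Nat.card G = σ * n * e := by
    rw [he, hσ, hn, ← card_mul_index R, ← relIndex_mul_index (le_normalizer (H := R))]
    ring
  have σ0 : 0 < σ := hσ ▸ Nat.pos_of_ne_zero index_ne_zero_of_finite
  have n0 : 0 < n := hn ▸ Nat.card_pos
  have le : ∀ i, e ≤ f i := fun i => he ▸ deg_le cc (irr i).isCharacter (hf i) (f0 i) (s0 i) (by rw [s2, if_pos rfl, hf])
  obtain ⟨T, hT⟩ : ∃ T, T = Finset.univ.filter (fun g : G => ¬ ∃ x ∈ R, x ≠ 1 ∧ IsConj x g) := ⟨_, rfl⟩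
  have T1 : (1 : G) ∈ T := by
    rw [hT, Finset.mem_filter]
    exact ⟨Finset.mem_univ _, fun ⟨x, _, x1, c⟩ => x1 (isConj_one_left.1 c)⟩
  have a1 : ∀ i, ∑ g ∈ T, χ i g = σ * f i := fun i => by
    rw [hT, CB.sumT comm cc (irr i).isClassFunction, (irr i).sum_eq_zero (ne i), s0, hf, ← hσ]
    ring
  have a2 : ∀ i j, ∑ g ∈ T, χ i g * (starRingEnd ℂ) (χ j g) =
      σ * (f i * f j - if i = j then (n : ℂ) * (f i - e) else 0) := fun i j => by
    have c0 : (Nat.card G : ℂ) ≠ 0 := Nat.cast_ne_zero.2 Nat.card_pos.ne'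
    have o : ∑ g, χ i g * (starRingEnd ℂ) (χ j g) = (Nat.card G : ℂ) * classInner (χ i) (χ j) := by
      rw [classInner, mul_inv_cancel_left₀ c0]
    rw [hT, CB.sumT comm cc (φ := fun g => χ i g * (starRingEnd ℂ) (χ j g)) fun g h => by
      simp only [(irr i).isClassFunction g h, (irr j).isClassFunction g h], o, s2, hf, hf, map_natCast, ← hσ, ← hn, cG]
    by_cases k : i = j
    · subst k
      rw [(irr i).inner_self, if_pos rfl, if_pos rfl]
      push_cast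
      ring
    · rw [(irr i).inner_of_ne (irr j) (inj.ne k), if_neg k, if_neg k]
      ring
  have key : ∀ i j, i ≠ j → f i = e ∧ ∀ g ∈ T, (f j : ℂ) * χ i g = f i * χ j g := fun i j k => by
    have q := CB.sq (T := T) (χ i) (χ j) (f i) (f j)
    rw [a2, a2, a2, a2, if_pos rfl, if_pos rfl, if_neg k, if_neg k.symm] at q
    have q' : ∑ g ∈ T, Complex.normSq (((f j : ℝ) : ℂ) * χ i g - ((f i : ℝ) : ℂ) * χ j g) =
        -((σ : ℝ) * n * (f j ^ 2 * (f i - e) + f i ^ 2 * (f j - e))) := by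
      apply Complex.ofReal_injective
      rw [q]
      push_cast
      ring
    have p0 : 0 ≤ ∑ g ∈ T, Complex.normSq (((f j : ℝ) : ℂ) * χ i g - ((f i : ℝ) : ℂ) * χ j g) :=
      Finset.sum_nonneg fun g _ => Complex.normSq_nonneg _
    have li : (0 : ℝ) ≤ f i - e := sub_nonneg.2 (Nat.cast_le.2 (le i))
    have lj : (0 : ℝ) ≤ f j - e := sub_nonneg.2 (Nat.cast_le.2 (le j))
    have pj : (0 : ℝ) < (f j : ℝ) ^ 2 := pow_pos (Nat.cast_pos.2 (f0 j)) 2
    have sn : (0 : ℝ) < (σ : ℝ) * n := mul_pos (Nat.cast_pos.2 σ0) (Nat.cast_pos.2 n0)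
    have m1 := mul_nonneg pj.le li
    have m2 := mul_nonneg (sq_nonneg (f i : ℝ)) lj
    have z : (f j : ℝ) ^ 2 * (f i - e) + f i ^ 2 * (f j - e) = 0 :=
      le_antisymm (nonpos_of_mul_nonneg_right (by linarith) (neg_neg_of_pos sn)) (add_nonneg m1 m2)
    rw [z, mul_zero, neg_zero] at q'
    refine ⟨?_, fun g hg => ?_⟩
    · have : (f i : ℝ) - e = 0 := (mul_eq_zero.1 (show (f j : ℝ) ^ 2 * (f i - e) = 0 by linarith)).resolve_left pj.ne'
      exact Nat.cast_injective (R := ℝ) (sub_eq_zero.1 this)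
    · have := (Finset.sum_eq_zero_iff_of_nonneg fun g _ => Complex.normSq_nonneg _).1 q' g hg
      simpa [sub_eq_zero] using Complex.normSq_eq_zero.1 this
  have : Nontrivial (Fin t) := Fin.nontrivial_iff_two_le.2 t2
  have fe : ∀ i, f i = e := fun i => by
    obtain ⟨j, k⟩ := exists_ne i
    exact (key i j k.symm).1
  obtain ⟨i₀⟩ : Nonempty (Fin t) := inferInstance
  have e0 : 0 < e := fe i₀ ▸ f0 i₀
  have pi : ∀ g ∈ T, (Nat.card (fixedBy Ω g) : ℂ) = 1 + t * χ i₀ g := fun g hg => by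
    rw [fx, Finset.sum_congr rfl (g := fun _ => χ i₀ g) fun i _ => ?_]
    · simp
    · by_cases k : i = i₀
      · rw [k]
      · have := (key i i₀ k).2 g hg
        rw [fe, fe] at this
        exact mul_left_cancel₀ (Nat.cast_ne_zero.2 e0.ne') this
  have t0 : (t : ℂ) ≠ 0 := Nat.cast_ne_zero.2 (by omega)
  have ex : ∀ g ∈ T, ∃ a : ℤ, χ i₀ g = a := fun g hg => (irr i₀).isGen.exists_int_of_rat
    ⟨((Nat.card (fixedBy Ω g) : ℚ) - 1) / t, by
      push_cast
      rw [pi g hg]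
      field_simp
      ring⟩
  choose! a ha using ex
  have pi' : ∀ g ∈ T, (Nat.card (fixedBy Ω g) : ℤ) = 1 + t * a g := fun g hg => by
    have := pi g hg
    rw [ha g hg] at this
    exact_mod_cast this
  have ae : a 1 = e := by
    have := ha 1 T1
    rw [hf, fe] at this
    exact_mod_cast this.symm
  have cu : ∀ g : G, Nat.card (fixedBy Ω g) ≤ Nat.card (fixedBy Ω (1 : G)) := fun g =>
    Nat.card_mono (Set.toFinite _) (by rw [fixedBy_one_eq_univ]; exact Set.subset_univ _)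
  have t2' : (2 : ℤ) ≤ t := by exact_mod_cast t2
  have r := CB.fin (T := T) (a := a) (e := e) (σ := σ) (by exact_mod_cast e0) T1 ae (fun g hg => ?_) (fun g hg => ?_)
    (fun g hg k => ?_) ?_ ?_
  · exact normalizer_eq_top_iff.1 (index_eq_one.1 (hσ ▸ by exact_mod_cast r))
  · have := pi' g hg
    have h0 : (0 : ℤ) ≤ Nat.card (fixedBy Ω g) := Int.natCast_nonneg _
    nlinarith
  · have h1 := pi' g hg
    have h2 := pi' 1 T1
    have h3 : (Nat.card (fixedBy Ω g) : ℤ) ≤ Nat.card (fixedBy Ω (1 : G)) := by exact_mod_cast cu g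
    rw [ae] at h2
    nlinarith
  · have h1 := pi' g hg
    rw [k, ← ae, ← pi' 1 T1, Nat.cast_inj, fixedBy_one_eq_univ, Nat.card_coe_set_eq, Nat.card_coe_set_eq] at h1
    have h2 := Set.eq_of_subset_of_ncard_le (Set.subset_univ (fixedBy Ω g)) h1.ge
    exact eq_of_smul_eq_smul fun ω : Ω => by rw [one_smul]; exact h2.ge (Set.mem_univ ω)
  · have := a1 i₀
    rw [Finset.sum_congr rfl ha, fe] at this
    exact_mod_cast this
  · have := a2 i₀ i₀
    rw [Finset.sum_congr rfl (g := fun g => (a g : ℂ) * a g) fun g hg => by rw [ha g hg, map_intCast], if_pos rfl, fe,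
      sub_self, mul_zero, sub_zero, ← pow_two] at this
    exact_mod_cast this

end CL.DI
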