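import Mathlib
import Cfsg.Agent.PERM.Derange

/-!
The index of the subgroup generated by the derangements: definitions.
-/

set_option autoImplicit false

namespace CL.DI

open Subgroup MulAction

variable {G : Type*} [Group G]

/-- `D` is a transitive normal subgroup and every element outside `D` fixes exactly one point -/
structure Ex (Ω : Type*) [MulAction G Ω] (D : Subgroup G) : Prop where
  nrm : D.Normal
  tr : ∀ a b : Ω, ∃ g ∈ D, g • a = b
  one : ∀ g : G, g ∉ D → ∀ a b : Ω, g • a = a → g • b = b → a = b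
  der : ∀ g : G, (∀ ω : Ω, g • ω ≠ ω) → g ∈ D

/-- `R ≤ D` is a regular abelian Sylow `r`-subgroup whose normalizer covers `G / D` -/
structure Reg (Ω : Type*) [MulAction G Ω] (D R : Subgroup G) (r : ℕ) : Prop where
  pr : r.Prime
  pg : IsPGroup r R
  nd : ¬ r ∣ R.index
  le : R ≤ D
  comm : ∀ a ∈ R, ∀ b ∈ R, a * b = b * a
  tr : ∀ a b : Ω, ∃ g ∈ R, g • a = b
  free : ∀ g ∈ R, ∀ a : Ω, g • a = a → g = 1
  sup : normalizer (R : Set G) ⊔ D = ⊤

variable {H : Type*} [Group H]

/-- `h` has no non-trivial fixed point -/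
def Fp (V : Type*) [CommGroup V] [MulDistribMulAction H V] (h : H) : Prop := ∀ v : V, h • v = v → v = 1

/-- the fixed points of `h` -/
def fx (V : Type*) [CommGroup V] [MulDistribMulAction H V] (h : H) : Subgroup V where
  carrier := {v | h • v = v}
  one_mem' := smul_one h
  mul_mem' := fun {a b} ha hb => by
    simp only [Set.mem_ofPred_eq] at *
    rw [smul_mul', ha, hb]
  inv_mem' := fun {a} ha => by
    simp only [Set.mem_ofPred_eq] at *
    rw [smul_inv', ha]

theorem mem_fx {V : Type*} [CommGroup V] [MulDistribMulAction H V] {h : H} {v : V} :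
    v ∈ fx V h ↔ h • v = v := Iff.rfl

/-- a faithful coprime action in which the elements outside the normal subgroup `K` have no fixed points -/
structure Ln (V : Type*) [CommGroup V] [MulDistribMulAction H V] (K : Subgroup H) : Prop where
  nrm : K.Normal
  fa : ∀ h : H, (∀ v : V, h • v = v) → h = 1
  cop : (Nat.card H).Coprime (Nat.card V)
  fp : ∀ h : H, h ∉ K → Fp V h

/-- `Y` leaves no proper non-trivial subgroup invariant -/
def Irr (V : Type*) [CommGroup V] [MulDistribMulAction H V] (Y : Subgroup H) : Prop :=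
  ∀ W : Subgroup V, (∀ y ∈ Y, ∀ v ∈ W, y • v ∈ W) → W = ⊥ ∨ W = ⊤

/-- the elements of `Q` with fixed points have order `p` and are conjugate to a central translate -/
structure Str (V : Type*) [CommGroup V] [MulDistribMulAction H V] (p : ℕ) (Q : Subgroup H) : Prop where
  pg : IsPGroup p Q
  ex : ∃ y ∈ Q, y ≠ 1 ∧ ¬ Fp V y
  cj : ∀ y ∈ Q, y ≠ 1 → ¬ Fp V y → y ^ p = 1 ∧ ∃ g ∈ Q, ∃ c ∈ Q, c ≠ 1 ∧ c ^ p = 1 ∧
    (∀ q ∈ Q, c * q = q * c) ∧ (∀ i : ℕ, c ^ i ≠ 1 → Fp V (c ^ i)) ∧ g * y * g⁻¹ = y * c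

end CL.DI
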