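import Cfsg.Agent.PERM.DI.Defs

set_option autoImplicit false
set_option linter.unusedSectionVars false

namespace CL.DI

open Subgroup MulAction

variable {H V : Type*} [Group H] [Finite H] [CommGroup V] [Finite V] [MulDistribMulAction H V] {K Y Q : Subgroup H}

theorem LinA.idx (hK : K.Normal) (hY : Y ⊔ K = ⊤) (qy : Q ≤ Y) (qk : Q ≤ K) {S : Subgroup H} (hS : S ⊓ Y ≤ K) :
    K.index * S.relIndex Q ≤ S.relIndex Y := by
  have e1 : K.relIndex Y = K.index := by rw [← relIndex_sup_right, hY, relIndex_top_right]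
  have e2 : (S ⊓ Y).relIndex (K ⊓ Y) * (K ⊓ Y).relIndex Y = (S ⊓ Y).relIndex Y :=
    relIndex_mul_relIndex _ _ _ (le_inf hS inf_le_right) inf_le_right
  have e3 : (S ⊓ Y).relIndex Q ≤ (S ⊓ Y).relIndex (K ⊓ Y) :=
    relIndex_le_of_le_right (le_inf qk qy) index_ne_zero_of_finite
  have e4 : (S ⊓ Y).relIndex Q = S.relIndex Q := by
    rw [← inf_relIndex_right, inf_assoc, inf_eq_right.2 qy, inf_relIndex_right]
  rw [inf_relIndex_right, inf_relIndex_right, e1] at e2
  rw [← e2, ← e4, mul_comm]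
  exact Nat.mul_le_mul_right _ e3

theorem LinA.card_eq (S Q : Subgroup H) : Nat.card Q = S.relIndex Q * Nat.card (Q ⊓ S : Subgroup H) := by
  rw [← (S.subgroupOf Q).index_mul_card, ← inf_subgroupOf_right, inf_comm S,
    Nat.card_congr (subgroupOfEquivOfLe (inf_le_left : Q ⊓ S ≤ Q)).toEquiv, relIndex, ← inf_subgroupOf_right S, inf_comm S]

/-- **Orbit lengths.** PROOF. `Y_v ≤ K` (`h.fp`), `|Y : Y ⊓ K| = K.index` (`K` normal, `Y ⊔ K = ⊤`), so the orbit has length
`K.index · |Y ⊓ K : Y_v|`, and `|Y ⊓ K : Y_v| ≥ |Q : Q ⊓ Y_v|` (`Subgroup.relIndex_le_of_le_right`). -/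
theorem Ln.orb (h : Ln V K) (hY : Y ⊔ K = ⊤) (qy : Q ≤ Y) (qk : Q ≤ K) {v : V} (v1 : v ≠ 1) :
    K.index * Nat.card Q ≤ (orbit Y v).ncard * Nat.card (Q ⊓ stabilizer H v : Subgroup H) := by
  have e : (orbit Y v).ncard = (stabilizer H v).relIndex Y := by
    rw [← index_stabilizer]; rfl
  rw [e, LinA.card_eq (stabilizer H v) Q, ← mul_assoc]
  exact Nat.mul_le_mul_right _ (LinA.idx h.nrm hY qy qk fun g hg => by_contra fun c => v1 (h.fp g c v hg.1))

/-- **The reducible case.** PROOF. `d = K.index`, `W` invariant, `1 ≠ W ≠ V`. `Ln.orb` with `Q = ⊥` gives `d ≤ |W| - 1`. Take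
`v ∉ W`. If `g ∈ Y \ K` had `g • v = v w₀`, `w₀ ∈ W`, then, `x ↦ x⁻¹ (g • x)` being injective and so surjective on `W`,
`w₀⁻¹ = w⁻¹ (g • w)` and `g` fixes `v w ≠ 1`. So the stabilizer in `Y` of the coset `v W` lies in `K`, the orbit of `v W` has at
least `d` cosets, all `≠ W`: `d + 1 ≤ |V : W|`. -/
theorem Ln.red (h : Ln V K) (hY : Y ⊔ K = ⊤) (hi : ¬ Irr V Y) : (K.index + 1) ^ 2 ≤ Nat.card V := by
  obtain ⟨W, hW, w0, w1⟩ : ∃ W : Subgroup V, (∀ y ∈ Y, ∀ v ∈ W, y • v ∈ W) ∧ W ≠ ⊥ ∧ W ≠ ⊤ := by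
    by_contra c
    refine hi fun W hW => ?_
    by_contra d
    exact c ⟨W, hW, fun e => d (.inl e), fun e => d (.inr e)⟩
  obtain ⟨⟨w, hw⟩, wn⟩ := ne_bot_iff_exists_ne_one.1 w0
  have wn : w ≠ 1 := fun e => wn (Subtype.ext e)
  have a1 : K.index + 1 ≤ Nat.card W := by
    have k := h.orb hY (Q := ⊥) bot_le bot_le wn
    rw [bot_inf_eq, card_bot, mul_one, mul_one] at k
    have l : (orbit Y w).ncard < (W : Set V).ncard := by
      refine Set.ncard_lt_ncard ⟨?_, fun c => ?_⟩ (Set.toFinite _)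
      · rintro _ ⟨y, rfl⟩
        exact hW y y.2 w hw
      · obtain ⟨y, e⟩ := c W.one_mem
        exact wn ((smul_eq_iff_eq_inv_smul y).1 e |>.trans (smul_one _))
    exact (Nat.succ_le_succ k).trans l
  obtain ⟨v, hv⟩ : ∃ v, v ∉ W := by
    by_contra c
    exact w1 (eq_top_iff.2 fun x _ => by_contra fun d => c ⟨x, d⟩)
  let S : Subgroup H :=
    { carrier := {g | g ∈ Y ∧ v⁻¹ * g • v ∈ W}
      one_mem' := ⟨one_mem _, by simp⟩
      mul_mem' := fun {a b} ha hb => ⟨mul_mem ha.1 hb.1, by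
        have := mul_mem ha.2 (hW a ha.1 _ hb.2)
        rwa [smul_mul', smul_inv', mul_assoc, mul_inv_cancel_left, ← mul_smul] at this⟩
      inv_mem' := fun {a} ha => ⟨inv_mem ha.1, by
        have := inv_mem (hW _ (inv_mem ha.1) _ ha.2)
        rwa [smul_mul', smul_inv', inv_smul_smul, mul_inv_rev, inv_inv] at this⟩ }
  have hS : S ⊓ Y ≤ K := fun g hg => by_contra fun c => by
    let f : W → W := fun x => ⟨(x : V)⁻¹ * g • (x : V), mul_mem (inv_mem x.2) (hW g hg.2 _ x.2)⟩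
    have fi : Function.Injective f := fun a b e => by
      have e1 : (a : V)⁻¹ * g • (a : V) = (b : V)⁻¹ * g • (b : V) := congrArg Subtype.val e
      have e2 : g • ((a : V) * (b : V)⁻¹) = a * (b : V)⁻¹ := by
        rw [smul_mul', smul_inv', mul_inv_eq_iff_eq_mul, mul_assoc, ← e1, mul_inv_cancel_left]
      exact Subtype.ext (mul_inv_eq_one.1 (h.fp g c _ e2))
    obtain ⟨x, e⟩ := Finite.surjective_of_injective fi ⟨_, hg.1.2⟩
    have e1 : (x : V)⁻¹ * g • (x : V) = v⁻¹ * g • v := congrArg Subtype.val e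
    have e2 : g • (v * (x : V)⁻¹) = v * (x : V)⁻¹ := by
      rw [smul_mul', smul_inv', mul_inv_eq_iff_eq_mul, mul_assoc, e1, mul_inv_cancel_left]
    exact hv (mul_inv_eq_one.1 (h.fp g c _ e2) ▸ x.2)
  have a2 : K.index + 1 ≤ W.index := by
    have k := LinA.idx h.nrm hY (Q := ⊥) bot_le bot_le hS
    rw [relIndex_bot_right, mul_one] at k
    let f : Option (Y ⧸ S.subgroupOf Y) → V ⧸ W := fun o => o.elim 1 fun q => ((q.out.1 • v : V) : V ⧸ W)
    have n1 : ∀ y : Y, ((y.1 • v : V) : V ⧸ W) ≠ 1 := fun y e => by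
      have := hW _ (inv_mem y.2) _ ((QuotientGroup.eq_one_iff _).1 e)
      rw [inv_smul_smul] at this
      exact hv this
    have fi : Function.Injective f := by
      rintro (_ | a) (_ | b) e
      · rfl
      · exact absurd e.symm (n1 _)
      · exact absurd e (n1 _)
      · have e1 := hW _ (inv_mem a.out.2) _ (QuotientGroup.eq.1 e)
        rw [smul_mul', smul_inv', inv_smul_smul, ← mul_smul] at e1
        rw [← a.out_eq, ← b.out_eq]
        exact congrArg _ (QuotientGroup.eq.2 ⟨mul_mem (inv_mem a.out.2) b.out.2, e1⟩)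
    have := Nat.card_le_card_of_injective f fi
    rw [Finite.card_option] at this
    exact (Nat.succ_le_succ k).trans this
  rw [sq, ← W.card_mul_index]
  exact Nat.mul_le_mul a1 a2

/-- **Independence.** PROOF. For `j ∉ s`: `W j ⊓ ⨆ i ∈ s, W i = ⊥` by induction on the finite set `s`. If `w = a b ∈ W j`,
`a ∈ W i`, `b ∈ ⨆ s`, apply the endomorphism `φ x = x⁻¹ (g • x)` for the `g` of the pair `(i, j)`: `φ w = φ b` lies in `W j` and in
`⨆ s`, so is `1`, and `w = 1`. Then `Subgroup.injective_noncommPiCoprod_of_iSupIndep`. -/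
theorem indep {ι : Type*} [Fintype ι] (W : ι → Subgroup V)
    (hW : ∀ i j, i ≠ j → ∃ g : H, (∀ v ∈ W i, g • v = v) ∧ (∀ l, ∀ v ∈ W l, g • v ∈ W l) ∧
      ∀ v ∈ W j, g • v = v → v = 1) : ∏ i, Nat.card (W i) ≤ Nat.card V := by
  classical
  have k : ∀ (n : ℕ) (s : Finset ι), s.card = n → ∀ x : ι → V, (∀ i, x i ∈ W i) → ∏ i ∈ s, x i = 1 →
      ∀ j ∈ s, x j = 1 := by
    intro n
    induction n using Nat.strong_induction_on with
    | _ n ih =>
      intro s hs x hx e j hj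
      by_cases c : ∃ i ∈ s, i ≠ j
      · obtain ⟨i, hi, ij⟩ := c
        obtain ⟨g, g1, g2, g3⟩ := hW i j ij
        have e1 : ∏ l ∈ s, ((x l)⁻¹ * g • x l) = 1 := by
          rw [Finset.prod_mul_distrib, Finset.prod_inv_distrib, ← Finset.smul_prod', e, smul_one, inv_one, one_mul]
        rw [← Finset.mul_prod_erase s _ hi, g1 _ (hx i), inv_mul_cancel, one_mul] at e1
        have := ih _ (hs ▸ Finset.card_erase_lt_of_mem hi) _ rfl (fun l => (x l)⁻¹ * g • x l)
          (fun l => mul_mem (inv_mem (hx l)) (g2 l _ (hx l))) e1 j (Finset.mem_erase.2 ⟨ij.symm, hj⟩)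
        exact g3 _ (hx j) (inv_mul_eq_one.1 this).symm
      · rwa [Finset.prod_eq_single_of_mem j hj fun i hi ij => absurd ⟨i, hi, ij⟩ c] at e
  rw [← Nat.card_pi]
  refine Nat.card_le_card_of_injective (fun x => ∏ i, (x i : V)) fun a b e => funext fun j => Subtype.ext ?_
  refine mul_inv_eq_one.1 (k _ Finset.univ rfl (fun i => (a i : V) * (b i : V)⁻¹)
    (fun i => mul_mem (a i).2 (inv_mem (b i).2)) ?_ j (Finset.mem_univ j))
  rw [Finset.prod_mul_distrib, Finset.prod_inv_distrib]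
  exact mul_inv_eq_one.2 e

/-- **Counting fixed points.** PROOF. Count the pairs `(y, u)`, `1 ≠ y ∈ Q`, `u ≠ 1`, `y • u = u`. There are at most
`N (c - 1)`, and at least `|v^Y| (b - 1)` because `Y` normalizes `Q`, so `|Q_u| = |Q_v| = b` on the orbit of `v`.
Multiply by `b` and use `Ln.orb`. -/
theorem Ln.cnt (h : Ln V K) (hY : Y ⊔ K = ⊤) (qy : Q ≤ Y) (qk : Q ≤ K) (qn : Y ≤ normalizer (Q : Set H)) {v : V}
    (v1 : v ≠ 1) {b c : ℕ} (hb : Nat.card (Q ⊓ stabilizer H v : Subgroup H) = b)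
    (hc : ∀ y ∈ Q, y ≠ 1 → Nat.card (fx V y) ≤ c) :
    K.index * Nat.card Q * (b - 1) ≤ b * ({y : H | y ∈ Q ∧ y ≠ 1 ∧ ¬ Fp V y}.ncard * (c - 1)) := by
  classical
  have k := h.orb hY qy qk v1
  rw [hb] at k
  have n1 : ∀ u ∈ orbit Y v, u ≠ 1 := by
    rintro _ ⟨y, rfl⟩ e
    exact v1 ((smul_eq_iff_eq_inv_smul y).1 e |>.trans (smul_one _))
  have l := Finset.card_mul_le_card_mul (s := (Set.toFinite (orbit Y v)).toFinset)
    (t := (Set.toFinite {y : H | y ∈ Q ∧ y ≠ 1 ∧ ¬ Fp V y}).toFinset) (m := b - 1) (n := c - 1)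
    (fun u y => y • u = u) (fun u hu => ?_) (fun y hy => ?_)
  · rw [← Set.ncard_eq_toFinset_card, ← Set.ncard_eq_toFinset_card] at l
    calc _ ≤ (orbit Y v).ncard * b * (b - 1) := Nat.mul_le_mul_right _ k
      _ = b * ((orbit Y v).ncard * (b - 1)) := by ring
      _ ≤ _ := Nat.mul_le_mul_left _ l
  · rw [Set.Finite.mem_toFinset] at hu
    have u1 := n1 u hu
    obtain ⟨g, rfl⟩ := hu
    rw [← hb, ← Set.ncard_coe_finset]
    have e : Nat.card (Q ⊓ stabilizer H v : Subgroup H) - 1 =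
        (((Q ⊓ stabilizer H v : Subgroup H) : Set H) \ {1}).ncard := by
      rw [Set.ncard_sdiff_singleton_of_mem (one_mem _)]; rfl
    rw [e]
    refine Set.ncard_le_ncard_of_injOn (fun y => g.1 * y * g.1⁻¹) (fun y hy => ?_) (fun a _ b _ e => by simpa using e)
    have f : (g.1 * y * g.1⁻¹) • g • v = g • v := by
      show _ • g.1 • v = g.1 • v
      rw [mul_smul, inv_smul_smul, mul_smul, show y • v = v from hy.1.2]
    simp only [Finset.coe_bipartiteAbove, Set.mem_ofPred_eq, Set.Finite.mem_toFinset]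
    exact ⟨⟨(mem_normalizer_iff.1 (qn g.2) y).1 hy.1.1, fun e => hy.2 (by simpa using e), fun e => u1 (e _ f)⟩, f⟩
  · rw [Set.Finite.mem_toFinset] at hy
    refine le_trans ?_ (Nat.sub_le_sub_right (hc y hy.1 hy.2.1) 1)
    have e : Nat.card (fx V y) - 1 = ((fx V y : Set V) \ {1}).ncard := by
      rw [Set.ncard_sdiff_singleton_of_mem (one_mem _)]; rfl
    rw [e, ← Set.ncard_coe_finset]
    refine Set.ncard_le_ncard (fun u hu => ?_)
    simp only [Finset.coe_bipartiteBelow, Set.mem_ofPred_eq, Set.Finite.mem_toFinset] at hu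
    exact ⟨hu.2, n1 u hu.1⟩

end CL.DI
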