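import Cfsg.Agent.PERM.DI.LinA

set_option autoImplicit false
set_option linter.unusedSectionVars false

namespace CL.DI

open Subgroup MulAction

variable {H V : Type*} [Group H] [Finite H] [CommGroup V] [Finite V] [MulDistribMulAction H V] {K Y Q : Subgroup H}

/-- PROOF. Induction on `t`: with `a = 2 + t u ≥ 2 + 2 u`, `(a + u)² ≤ a² (1 + u)`. -/
theorem arith (u t : ℕ) (ht : 2 ≤ t) : (2 + t * u) ^ 2 ≤ 4 * (u + 1) ^ t := by
  induction t, ht using Nat.le_induction with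
  | base => exact le_of_eq (by ring)
  | succ t ht ih =>
    have h1 : 2 + 2 * u ≤ 2 + t * u := by nlinarith
    rw [show 2 + (t + 1) * u = 2 + t * u + u by ring, pow_succ (u + 1), ← mul_assoc]
    refine le_trans ?_ (Nat.mul_le_mul_right _ ih)
    generalize 2 + t * u = a at h1
    nlinarith [Nat.mul_le_mul_left (a * u) h1, Nat.mul_le_mul_left (u * u) h1, Nat.mul_le_mul_left u h1]

/-- **An abelian normal subgroup with fixed points.** PROOF. Among the stabilizers `Q_v`, `v ≠ 1`, take `B = Q_{v₀}` of maximal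
order; `B ≠ 1`. Let `ι` be the set of the `Y`-conjugates of `B` (all `≤ Q`, of the form `Q_{y • v₀}`), `t = |ι|`, and for `B' ∈ ι`
let `W B'` be the group of fixed points of `B'`; all have the same order `w`. By maximality `Q_u = B'` for `1 ≠ u ∈ W B'`. For
`B₁ ≠ B₂` in `ι` take `g ∈ B₁ \ B₂`; `Q` is abelian, so `indep` applies: `w^t ≤ |V|`. `t ≥ 2`: otherwise `W B ≠ 1` is
`Y`-invariant, so `W B = V` and `B = 1` (`h.fa`). In particular `B ≠ Q`, `2 |B| ≤ |Q|`, and `Ln.orb` gives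
`2 d ≤ |v₀^Y| ≤ t (w - 1)`. Finish with `arith`. -/
theorem Ln.ab (h : Ln V K) (hY : Y ⊔ K = ⊤) (hi : Irr V Y) (qy : Q ≤ Y) (qk : Q ≤ K)
    (qn : Y ≤ normalizer (Q : Set H)) (ab : ∀ a ∈ Q, ∀ b ∈ Q, a * b = b * a) (ex : ∃ y ∈ Q, y ≠ 1 ∧ ¬ Fp V y) :
    (K.index + 1) ^ 2 ≤ Nat.card V := by
  classical
  obtain ⟨y₀, hy₀, y1, hf⟩ := ex
  obtain ⟨v₁, e₁, v1⟩ : ∃ v : V, y₀ • v = v ∧ v ≠ 1 := by simpa [Fp] using hf
  let S : V → Subgroup H := fun v => Q ⊓ stabilizer H v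
  obtain ⟨v, v0, mx⟩ := Set.exists_max_image {v : V | v ≠ 1} (fun v => Nat.card (S v)) (Set.toFinite _) ⟨v₁, v1⟩
  have cS : ∀ y ∈ Y, ∀ u g, g ∈ S u ↔ y * g * y⁻¹ ∈ S (y • u) := fun y hy u g =>
    and_congr (mem_normalizer_iff.1 (qn hy) g) (by simp [mul_smul])
  have c1 : ∀ y ∈ Y, Nat.card (S (y • v)) = Nat.card (S v) := fun y hy =>
    (Nat.card_congr ((MulAut.conj y).toEquiv.subtypeEquiv (cS y hy v))).symm
  let W : Subgroup H → Subgroup V := fun B => FixedPoints.subgroup B V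
  have mW : ∀ {B u}, u ∈ W B ↔ ∀ g ∈ B, g • u = u := fun {B u} => by
    simp [W, FixedPoints.mem_subgroup, Subgroup.smul_def]
  have cW : ∀ y ∈ Y, ∀ u, u ∈ W (S v) ↔ y • u ∈ W (S (y • v)) := fun y hy u => by
    rw [mW, mW]
    refine ⟨fun a g hg => ?_, fun a g hg => by simpa [mul_smul] using a _ ((cS y hy v g).1 hg)⟩
    have := a (y⁻¹ * g * y) ((cS y hy v _).2 (by simpa [mul_assoc] using hg))
    rwa [mul_smul, mul_smul, inv_smul_eq_iff] at this
  let ι := {B : Subgroup H // ∃ y ∈ Y, S (y • v) = B}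
  have := Fintype.ofFinite ι
  have c2 : ∀ i : ι, Nat.card (W i) = Nat.card (W (S v)) := fun ⟨_, y, hy, e⟩ =>
    e ▸ (Nat.card_congr ((MulAction.toPerm y).subtypeEquiv (cW y hy))).symm
  have c3 : ∀ i : ι, Nat.card i.1 = Nat.card (S v) := fun ⟨_, y, hy, e⟩ => e ▸ c1 y hy
  have iQ : ∀ i : ι, i.1 ≤ Q := fun ⟨_, _, _, e⟩ => e ▸ inf_le_left
  have h1 := indep (H := H) (fun i : ι => W i) fun i j n => by
    obtain ⟨g, g1, g2⟩ := SetLike.not_le_iff_exists.1 fun a : i.1 ≤ j.1 =>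
      n (Subtype.ext (eq_of_le_of_card_ge a ((c3 j).trans (c3 i).symm).le))
    refine ⟨g, fun u hu => mW.1 hu g g1, fun l u hu => mW.2 fun b hb => ?_, fun u hu e => by_contra fun u1 => g2 ?_⟩
    · rw [← mul_smul, ab b (iQ l hb) g (iQ i g1), mul_smul, mW.1 hu b hb]
    · rw [eq_of_le_of_card_ge (show j.1 ≤ S u from fun b hb => ⟨iQ j hb, mW.1 hu b hb⟩) (c3 j ▸ mx u u1)]
      exact ⟨iQ i g1, e⟩
  have vW : ∀ u, u ∈ W (S u) := fun u => mW.2 fun g hg => hg.2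
  obtain ⟨y, hy, n⟩ : ∃ y ∈ Y, S (y • v) ≠ S v := by
    by_contra! a
    rcases hi (W (S v)) (fun y hy u hu => a y hy ▸ (cW y hy u).1 hu) with e | e
    · exact v0 (mem_bot.1 (e ▸ vW v))
    · have := mx v₁ v1
      rw [show S v = ⊥ from eq_bot_iff.2 fun g hg => h.fa g fun u => mW.1 (e ▸ mem_top u) g hg, card_bot] at this
      exact y1 (mem_bot.1 (eq_bot_of_card_le _ this ▸ (⟨hy₀, e₁⟩ : y₀ ∈ S v₁)))
  have h2 : 2 ≤ Fintype.card ι := Fintype.one_lt_card_iff.2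
    ⟨⟨_, y, hy, rfl⟩, ⟨_, 1, one_mem _, rfl⟩, fun e => n (by simpa using congrArg Subtype.val e)⟩
  have h3 : 2 * Nat.card (S v) ≤ Nat.card Q := by
    obtain ⟨m, hm⟩ := card_dvd_of_le (show S v ≤ Q from inf_le_left)
    have : m ≠ 1 := fun e => n (eq_of_le_of_card_ge (inf_le_left.trans_eq (eq_of_le_of_card_ge inf_le_left
      (by rw [hm, e, mul_one])).symm) (c1 y hy).ge)
    have : m ≠ 0 := fun e => (Nat.card_pos (α := Q)).ne' (by rw [hm, e, mul_zero])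
    rw [hm, mul_comm]
    exact Nat.mul_le_mul_left _ (by omega)
  have h4 : 2 * K.index ≤ (orbit Y v).ncard := Nat.le_of_mul_le_mul_right
    (le_trans (by nlinarith) (h.orb hY qy qk v0)) (Nat.card_pos (α := S v))
  have h5 : (orbit Y v).ncard ≤ Fintype.card ι * (Nat.card (W (S v)) - 1) := by
    refine (Set.ncard_le_ncard (t := ⋃ i : ι, (W i : Set V) \ {1}) ?_).trans
      ((Set.ncard_iUnion_le_of_fintype _).trans (le_of_eq ?_))
    · rintro _ ⟨y, rfl⟩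
      exact Set.mem_iUnion.2 ⟨⟨_, y, y.2, rfl⟩, vW _, fun e => v0 ((smul_eq_iff_eq_inv_smul _).1 e |>.trans (smul_one _))⟩
    · rw [← smul_eq_mul, ← Finset.card_univ, ← Finset.sum_const]
      exact Finset.sum_congr rfl fun i _ => by rw [Set.ncard_sdiff_singleton_of_mem (one_mem _), ← c2 i]; rfl
  have h6 := arith (Nat.card (W (S v)) - 1) _ h2
  simp only [c2, Finset.prod_const, Finset.card_univ] at h1
  rw [Nat.sub_add_cancel Nat.card_pos] at h6
  nlinarith [Nat.pow_le_pow_left (Nat.add_le_add_left (h4.trans h5) 2) 2]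

end CL.DI
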