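import Cfsg.Agent.PERM.DI.Defs
import Cfsg.Agent.TECH.Conj
import Cfsg.Agent.PLOC.PFrattini
import Cfsg.Agent.SOLV.Basic

set_option autoImplicit false
set_option linter.unusedSectionVars false

namespace CL.DI

open Subgroup MulAction

variable {H V : Type*} [Group H] [Finite H] [CommGroup V] [Finite V] [MulDistribMulAction H V] {K Y Q : Subgroup H}

namespace LinC

theorem norm_eq {p : ℕ} {x : H} (hx : x ^ p = 1) (f : Fp V x) (v : V) :
    ∏ k ∈ Finset.range p, x ^ k • v = 1 := by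
  apply f
  rw [Finset.smul_prod']
  have h1 := Finset.prod_range_succ (fun k => x ^ k • v) p
  have h2 := Finset.prod_range_succ' (fun k => x ^ k • v) p
  rw [h1, hx, pow_zero] at h2
  rw [mul_right_cancel h2]
  refine Finset.prod_congr rfl fun k _ => ?_
  rw [← mul_smul, pow_succ']

theorem not_fp_pow {y : H} (h : ¬ Fp V y) (n : ℕ) : ¬ Fp V (y ^ n) := by
  intro f
  apply h
  intro v hv
  apply f
  induction n with
  | zero => rw [pow_zero, one_smul]
  | succ n ih =>
    clear ih f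
    induction n with
    | zero => simpa using hv
    | succ m ih => rw [pow_succ, mul_smul, hv, ih]

end LinC

/-- **No fixed-point-free `p²`.** PROOF. If `a ∉ ⟨c⟩` then `E = ⟨a, c⟩` is the union of the `p + 1` subgroups `⟨c⟩`, `⟨a c^i⟩`
of order `p`. The norm `∏_{x ∈ U} x • v` is fixed by `U`, so is `1` for `1 ≠ U ≤ E`. Multiplying the norms of the `p + 1`
subgroups gives `N_E(v) v^p = 1`, so `v^p = 1` for all `v`, against `cop` (or cite the generation theorem for a non-cyclic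
abelian group acting coprimely). -/
theorem mem_of_fp [Nontrivial V] {p : ℕ} (hp : p.Prime) (cop : p.Coprime (Nat.card V)) {a c : H} (ha : a ^ p = 1)
    (hc : c ^ p = 1) (c1 : c ≠ 1) (e : a * c = c * a) (fp : ∀ i j : ℕ, a ^ i * c ^ j ≠ 1 → Fp V (a ^ i * c ^ j)) :
    a ∈ zpowers c := by
  by_contra hn
  have cm : Commute a c := e
  have := Fact.mk hp
  have oc : orderOf c = p := orderOf_eq_prime hc c1
  have key : ∀ v : V, v ^ p = 1 := by
    intro v
    have h1 : ∏ i ∈ Finset.range p, ∏ k ∈ Finset.range p, (a * c ^ i) ^ k • v = 1 := by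
      refine Finset.prod_eq_one fun i _ => LinC.norm_eq ?_ ?_ v
      · rw [(cm.pow_right i).mul_pow, ha, ← pow_mul, mul_comm i p, pow_mul, hc, one_pow, one_mul]
      · have := fp 1 i (by
          rw [pow_one]
          intro h
          apply hn
          rw [eq_inv_of_mul_eq_one_left h]
          exact inv_mem (pow_mem (mem_zpowers c) i))
        rwa [pow_one] at this
    rw [Finset.prod_comm, Finset.prod_eq_single 0] at h1
    · simpa using h1
    · intro k hk k0
      have hk' : c ^ k ≠ 1 := by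
        intro h
        have := orderOf_dvd_of_pow_eq_one h
        rw [oc] at this
        exact absurd (Nat.le_of_dvd (Nat.pos_of_ne_zero k0) this) (by simpa using hk)
      have f : Fp V (c ^ k) := by
        have := fp 0 k (by rwa [pow_zero, one_mul])
        rwa [pow_zero, one_mul] at this
      have h2 := LinC.norm_eq (V := V) (p := p) (x := c ^ k)
        (by rw [← pow_mul, mul_comm, pow_mul, hc, one_pow]) f v
      calc ∏ i ∈ Finset.range p, (a * c ^ i) ^ k • v
          = ∏ i ∈ Finset.range p, a ^ k • (c ^ k) ^ i • v := by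
            refine Finset.prod_congr rfl fun i _ => ?_
            rw [(cm.pow_right i).mul_pow, mul_smul, ← pow_mul, ← pow_mul, mul_comm i k]
        _ = 1 := by rw [← Finset.smul_prod', h2, smul_one]
    · intro h
      exact absurd (Finset.mem_range.2 hp.pos) h
  obtain ⟨v, hv⟩ := exists_ne (1 : V)
  have h3 : orderOf v ∣ 1 := by
    rw [← cop]
    exact Nat.dvd_gcd (orderOf_dvd_of_pow_eq_one (key v)) (orderOf_dvd_natCard v)
  exact hv (orderOf_eq_one_iff.1 (Nat.dvd_one.1 h3))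

/-- **A minimal normal subgroup with fixed points.** PROOF. Let `Q ≤ P` be of least order among the subgroups normalized by `Y`
that contain an element `≠ 1` with fixed points (`V ≠ 1` follows). `Q` is not abelian, by `ab`. `N = Φ(Q)` (or the subgroup
generated by the commutators and `p`-th powers of `Q`) is proper, non-trivial and normalized by `Y`, so all its elements `≠ 1`
are `Fp`; take `z ∈ N ⊓ Z(Q)` of order `p`. Let `1 ≠ y ∈ Q` have fixed points. `y^p ∈ N` has fixed points, so `y^p = 1`.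
`y ∉ Z(Q)` by `ab` for `Z(Q)`. `C = C_Q(y) < Q`; take `g ∈ N_Q(C) \ C` (normalizer condition). `g y g⁻¹ ∈ C`, so
`c = y⁻¹ g y g⁻¹ ≠ 1` commutes with `y`, lies in `N`, and `c^p = 1`. `mem_of_fp` gives `c ∈ ⟨z⟩`, so `c` is central. -/
theorem exists_str {p : ℕ} (hp : p.Prime) (cop : p.Coprime (Nat.card V)) {P : Subgroup H} (pg : IsPGroup p P)
    (pn : Y ≤ normalizer (P : Set H)) (ex : ∃ y ∈ P, y ≠ 1 ∧ ¬ Fp V y)
    (ab : ∀ A : Subgroup H, A ≤ P → Y ≤ normalizer (A : Set H) → (∀ a ∈ A, ∀ b ∈ A, a * b = b * a) →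
      ∀ y ∈ A, y ≠ 1 → Fp V y) :
    ∃ Q : Subgroup H, Q ≤ P ∧ Y ≤ normalizer (Q : Set H) ∧ Str V p Q := by
  classical
  have := Fact.mk hp
  obtain ⟨Q, ⟨QP, Qn, Qe⟩, hmin⟩ := (wellFounded_lt (α := Subgroup H)).has_min
    {Q : Subgroup H | Q ≤ P ∧ Y ≤ normalizer (Q : Set H) ∧ ∃ y ∈ Q, y ≠ 1 ∧ ¬ Fp V y} ⟨P, le_rfl, pn, ex⟩
  have Qp : IsPGroup p Q := pg.to_le QP
  refine ⟨Q, QP, Qn, Qp, Qe, ?_⟩
  obtain ⟨y0, y0Q, y01, y0f⟩ := Qe
  have : Nontrivial V := by
    by_contra h
    rw [not_nontrivial_iff_subsingleton] at h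
    exact y0f fun v _ => Subsingleton.elim _ _
  have : Nontrivial Q := ⟨⟨⟨y0, y0Q⟩, 1, fun h => y01 (congrArg Subtype.val h)⟩⟩
  set N : Subgroup H := (frattini Q).map Q.subtype with hN
  have NQ : N ≤ Q := map_subtype_le _
  have Nn : normalizer (Q : Set H) ≤ normalizer (N : Set H) :=
    CL.normalizer_le_normalizer_map_subtype Q (frattini Q)
  have Nlt : N < Q := by
    refine lt_of_le_of_ne NQ fun h => CL.PG.frattini_ne_top (P := Q) ?_
    apply map_injective Q.subtype_injective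
    rw [← hN, h, ← MonoidHom.range_eq_map, range_subtype]
  have Nf : ∀ x ∈ N, x ≠ 1 → Fp V x := by
    intro x hx x1
    by_contra f
    exact hmin N ⟨NQ.trans QP, Qn.trans Nn, x, hx, x1, f⟩ Nlt
  have cN : ∀ a ∈ Q, ∀ b ∈ Q, a * b * a⁻¹ * b⁻¹ ∈ N := fun a ha b hb =>
    CL.PG.commutator_le_frattini_map Qp (commutator_mem_commutator ha hb)
  have N1 : N ≠ ⊥ := by
    intro h
    refine y0f (ab Q QP Qn (fun a ha b hb => ?_) y0 y0Q y01)
    have := cN a ha b hb
    rw [h, mem_bot] at this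
    calc a * b = (a * b * a⁻¹ * b⁻¹) * (b * a) := by group
      _ = b * a := by rw [this, one_mul]
  have Z1 := CL.MSS.inf_centralizer_ne_bot Qp (Qp.to_le NQ) (le_normalizer.trans Nn) N1
  have Zp : IsPGroup p (N ⊓ centralizer (Q : Set H) : Subgroup H) := Qp.to_le (inf_le_left.trans NQ)
  obtain ⟨⟨z, zN, zC⟩, oz⟩ := exists_prime_orderOf_dvd_card' p
    ((Zp.card_eq_or_dvd).resolve_left fun h => Z1 (card_eq_one.1 h))
  rw [← orderOf_coe] at oz
  change orderOf z = p at oz
  have zp : z ^ p = 1 := by rw [← oz, pow_orderOf_eq_one]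
  have z1 : z ≠ 1 := by
    intro h
    rw [h, orderOf_one] at oz
    exact hp.one_lt.ne oz
  have zc : ∀ q ∈ Q, q * z = z * q := fun q hq => mem_centralizer_iff.1 zC q hq
  intro y yQ y1 yf
  have yp : y ^ p = 1 := by
    by_contra h
    exact LinC.not_fp_pow yf p (Nf _ (CL.PG.pow_mem_frattini_map Qp yQ) h)
  refine ⟨yp, ?_⟩
  have Clt : Q ⊓ centralizer ({y} : Set H) < Q := by
    refine lt_of_le_of_ne inf_le_left fun h => yf ?_
    refine ab (Q ⊓ centralizer (Q : Set H)) (inf_le_left.trans QP)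
      (CL.MSS.le_normalizer_inf Qn (CL.MSS.le_normalizer_centralizer Qn))
      (fun a ha b hb => mem_centralizer_iff.1 (mem_inf.1 hb).2 a (mem_inf.1 ha).1) y
      (mem_inf.2 ⟨yQ, mem_centralizer_iff.2 fun q hq => ?_⟩) y1
    have : q ∈ Q ⊓ centralizer ({y} : Set H) := by rw [h]; exact hq
    exact mem_centralizer_singleton_iff.1 (mem_inf.1 this).2
  obtain ⟨g, hg, gC⟩ := SetLike.exists_of_lt (CL.MSS.lt_inf_normalizer_of_lt Qp Clt)
  obtain ⟨gQ, gN⟩ := mem_inf.1 hg
  have yC : y ∈ Q ⊓ centralizer ({y} : Set H) := mem_inf.2 ⟨yQ, mem_centralizer_singleton_iff.2 rfl⟩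
  have h1 : g * y * g⁻¹ ∈ Q ⊓ centralizer ({y} : Set H) := (mem_normalizer_iff.1 gN y).1 yC
  have h2 : Commute (g * y * g⁻¹) y := mem_centralizer_singleton_iff.1 (mem_inf.1 h1).2
  have cmem : y⁻¹ * (g * y * g⁻¹) ∈ N := by
    have := cN y⁻¹ (inv_mem yQ) g gQ
    rwa [inv_inv, mul_assoc, mul_assoc, ← mul_assoc g] at this
  have c1 : y⁻¹ * (g * y * g⁻¹) ≠ 1 := by
    intro h
    refine gC (mem_inf.2 ⟨gQ, mem_centralizer_singleton_iff.2 ?_⟩)
    rw [inv_mul_eq_one, eq_mul_inv_iff_mul_eq] at h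
    exact h.symm
  have cp : (y⁻¹ * (g * y * g⁻¹)) ^ p = 1 := by
    rw [h2.symm.inv_left.mul_pow, inv_pow, conj_pow, yp]
    simp
  have cz : y⁻¹ * (g * y * g⁻¹) ∈ zpowers z :=
    mem_of_fp (V := V) hp cop cp zp z1 (zc _ (NQ cmem)) fun i j h =>
      Nf _ (N.mul_mem (N.pow_mem cmem i) (N.pow_mem zN j)) h
  refine ⟨g, gQ, y⁻¹ * (g * y * g⁻¹), NQ cmem, c1, cp, fun q hq => ?_,
    fun i h => Nf _ (N.pow_mem cmem i) h, by rw [mul_inv_cancel_left]⟩
  obtain ⟨k, hk⟩ := mem_zpowers_iff.1 cz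
  rw [← hk]
  exact ((show Commute q z from zc q hq).zpow_right k).symm

end CL.DI
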