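import Cfsg.Agent.PERM.DI.LinA

set_option autoImplicit false
set_option linter.unusedSectionVars false

namespace CL.DI

open Subgroup MulAction

variable {H V : Type*} [Group H] [Finite H] [CommGroup V] [Finite V] [MulDistribMulAction H V] {K Y Q : Subgroup H}

namespace LinD

theorem fx_conj (g y : H) : Nat.card (fx V (g * y * g⁻¹)) = Nat.card (fx V y) := by
  refine Nat.card_congr ⟨fun v => ⟨g⁻¹ • v.1, ?_⟩, fun v => ⟨g • v.1, ?_⟩, fun v => ?_, fun v => ?_⟩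
  · have := mem_fx.1 v.2
    rw [mul_smul, mul_smul, smul_eq_iff_eq_inv_smul] at this
    exact this
  · rw [mem_fx, mul_smul, mul_smul, inv_smul_smul, mem_fx.1 v.2]
  · simp
  · simp

theorem fx_one {y : H} (h : Fp V y) : Nat.card (fx V y) = 1 := by
  rw [card_eq_one, eq_bot_iff]
  exact fun v hv => h v hv

theorem pow_le {y g c : H} {n : ℕ} (cy : c * y = y * c) (cg : c * g = g * c)
    (hc : ∀ i, 0 < i → i < n → Fp V (c ^ i)) (e : g * y * g⁻¹ = y * c) :
    Nat.card (fx V y) ^ n ≤ Nat.card V := by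
  have cd : ∀ i : ℕ, Nat.card (fx V (y * c ^ i)) = Nat.card (fx V y) := by
    intro i
    induction i with
    | zero => simp
    | succ i ih =>
      rw [← ih, ← fx_conj g (y * c ^ i)]
      have : g * (y * c ^ i) * g⁻¹ = y * c ^ (i + 1) := by
        rw [mul_assoc g, mul_assoc y, ((Commute.pow_left cg i).inv_right).eq, ← mul_assoc y, ← mul_assoc g,
          ← mul_assoc g, e, pow_succ', mul_assoc]
      rw [this]
  have key : ∀ i j : ℕ, i < j → j < n → ∀ v : V, (y * c ^ i) • v = v → (y * c ^ j) • v = v → v = 1 := by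
    intro i j ij jn v h1 h2
    obtain ⟨k, rfl⟩ := Nat.exists_eq_add_of_le ij.le
    refine hc k (by omega) (by omega) v ?_
    rw [pow_add, ← mul_assoc, mul_smul] at h2
    exact MulAction.injective _ (h2.trans h1.symm)
  have := indep (H := H) (fun i : Fin n => fx V (y * c ^ i.1)) fun i j ij => ⟨y * c ^ i.1, fun v hv => hv,
    fun l v hv => by
      have cm : Commute (y * c ^ l.1) (y * c ^ i.1) :=
        ((Commute.refl y).mul_right (Commute.pow_right cy.symm _)).mul_left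
          ((Commute.pow_left cy _).mul_right ((Commute.refl c).pow_pow _ _))
      rw [mem_fx, ← mul_smul, cm.eq, mul_smul, mem_fx.1 hv],
    fun v hv hv' => by
      rcases lt_or_gt_of_ne (Fin.val_ne_of_ne ij) with l | l
      · exact key _ _ l j.2 v hv' hv
      · exact key _ _ l i.2 v hv hv'⟩
  simpa [cd] using this

theorem three {L : Subgroup H} (hL : Nat.card L ≤ 2) {a b : H} (ha : a ∈ L) (hb : b ∈ L) (a1 : a ≠ 1)
    (b1 : b ≠ 1) : a = b := by
  by_contra ab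
  have := (Set.two_lt_ncard_iff (Set.toFinite (L : Set H))).2
    ⟨1, a, b, L.one_mem, ha, hb, a1.symm, b1.symm, ab⟩
  rw [← Nat.card_coe_set_eq] at this
  exact absurd hL (not_le.2 this)

theorem le_card {U : Set H} (h : U ⊆ Q) : U.ncard ≤ Nat.card Q := by
  have := Set.ncard_le_ncard h
  rwa [← Nat.card_coe_set_eq (Q : Set H)] at this

theorem pw {p : ℕ} (hp : p.Prime) (pg : IsPGroup p Q) (L : Subgroup H) :
    ∃ k, Nat.card (Q ⊓ L : Subgroup H) = p ^ k := by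
  have := Fact.mk hp
  exact IsPGroup.iff_card.1 pg.to_inf_left

theorem ne_one {L : Subgroup H} {y : H} (hy : y ∈ L) (y1 : y ≠ 1) : Nat.card L ≠ 1 := by
  rw [Ne, card_eq_one]
  rintro rfl
  exact y1 hy

end LinD

open LinD in
/-- **Odd primes.** PROOF. For `1 ≠ y ∈ Q` with fixed points, `y`, `y c`, `y c²` are conjugate under `g` (`c` is central), and
`indep` on `Fin 3` (`W i = fx V (y c^i)`, operator `y c^i`; on `W j` it acts as `c^(i-j)`, i.e. `c^(i + p - j) ≠ 1`) gives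
`|fx V y|³ ≤ |V|`. Let `m` be the largest `|fx V y|`, `1 ≠ y ∈ Q`; `m³ ≤ |V|`. Take `v ≠ 1` fixed by the `y` of `s.ex`;
`b = |Q_v| ≥ 3` (a power of `p`, not `1`). `Ln.cnt` and `N ≤ |Q|` give `d (b - 1) ≤ b (m - 1)`, so `2 d ≤ 3 (m - 1)`, and
`(3 m - 1)² ≤ 4 m³` because `4 m³ - 9 m² + 6 m - 1 = (m - 1)² (4 m - 1)`. -/
theorem Ln.odd (h : Ln V K) (hY : Y ⊔ K = ⊤) (qy : Q ≤ Y) (qk : Q ≤ K) (qn : Y ≤ normalizer (Q : Set H))
    {p : ℕ} (hp : p.Prime) (p2 : p ≠ 2) (s : Str V p Q) : (K.index + 1) ^ 2 ≤ Nat.card V := by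
  have p3 : 3 ≤ p := by have := hp.two_le; omega
  obtain ⟨y, yQ, y1, ny⟩ := s.ex
  have cube : ∀ x ∈ Q, x ≠ 1 → Nat.card (fx V x) ^ 3 ≤ Nat.card V := by
    intro x xQ x1
    by_cases f : Fp V x
    · rw [fx_one f]
      exact Nat.card_pos
    obtain ⟨-, g, gQ, c, -, c1, cp, cc, cf, e⟩ := s.cj x xQ x1 f
    refine pow_le (cc x xQ) (cc g gQ) (fun i i0 i3 => cf i fun k => ?_) e
    have := Fact.mk hp
    have := Nat.le_of_dvd i0 (orderOf_eq_prime cp c1 ▸ orderOf_dvd_of_pow_eq_one k)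
    omega
  obtain ⟨x, ⟨xQ, x1⟩, mx⟩ := Set.exists_max_image {x : H | x ∈ Q ∧ x ≠ 1} (fun x => Nat.card (fx V x))
    (Set.toFinite _) ⟨y, yQ, y1⟩
  have m3 := cube x xQ x1
  obtain ⟨t, ht⟩ : ∃ t, Nat.card (fx V x) = t + 1 := ⟨_, (Nat.succ_pred_eq_of_pos Nat.card_pos).symm⟩
  obtain ⟨v, hv, v1⟩ : ∃ v : V, y • v = v ∧ v ≠ 1 := by
    by_contra c
    push Not at c
    exact ny c
  obtain ⟨k, hk⟩ := pw hp s.pg (stabilizer H v)
  have k0 : k ≠ 0 := fun e => ne_one (L := Q ⊓ stabilizer H v) ⟨yQ, hv⟩ y1 (by rw [hk, e, pow_zero])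
  have b3 : 3 ≤ p ^ k := p3.trans (Nat.le_self_pow k0 p)
  have c := h.cnt hY qy qk qn v1 hk (fun z zQ z1 => mx z ⟨zQ, z1⟩)
  have n := le_card (Q := Q) (U := {y : H | y ∈ Q ∧ y ≠ 1 ∧ ¬ Fp V y}) fun z hz => hz.1
  have q0 : 0 < Nat.card Q := Nat.card_pos
  rw [ht] at c m3
  obtain ⟨b, hb⟩ : ∃ b, p ^ k = b + 1 := ⟨p ^ k - 1, by omega⟩
  rw [hb] at c b3
  simp only [Nat.add_sub_cancel] at c
  have c1 : Nat.card Q * (K.index * b) ≤ Nat.card Q * ((b + 1) * t) := by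
    calc _ = K.index * Nat.card Q * b := by ring
      _ ≤ (b + 1) * (Nat.card Q * t) := c.trans (by gcongr)
      _ = _ := by ring
  have c2 := Nat.le_of_mul_le_mul_left c1 q0
  have c3 : (b + 1) * (2 * K.index) ≤ (b + 1) * (3 * t) := by nlinarith
  have c4 := Nat.le_of_mul_le_mul_left c3 (by omega)
  have c5 : (2 * K.index + 2) ^ 2 ≤ (3 * t + 2) ^ 2 := by gcongr
  nlinarith [Nat.zero_le (t ^ 3), Nat.zero_le (t ^ 2)]

open LinD in
/-- **The prime two.** PROOF. `fx V y ⊓ fx V (y c) = ⊥` and the two have equal order, so `|fx V y| ≤ m = Nat.sqrt |V|` for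
`1 ≠ y ∈ Q`; we show `d ≤ m - 1`. Fix `y₀` from `s.ex` with its `g, z := c`; `z` is `Fp` with `z² = 1`, so `z • v = v⁻¹`
(`v (z • v)` is fixed). `I = {x ∈ Q | x² = 1}` contains `1`, `z` and the `N` elements with fixed points: `N + 2 ≤ |I|`. If
`x ∈ I` and `x y₀ ∈ I` then `x` commutes with `y₀`; so `2 |I| - |Q| ≤ |I ∩ C(y₀)|`.
(i) Some `v ≠ 1` has `b = |Q_v| ≥ 4`: `C_Q(y₀) < Q` gives `2 |I| - |Q| ≤ |Q| / 2`, `4 N ≤ 3 |Q|`; `Ln.cnt` and
`4 (b - 1) ≥ 3 b` give `d ≤ m - 1`.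
(ii) Otherwise all `|Q_v| ≤ 2` (powers of two). Then `I ∩ C(y₀) ⊆ {1, z, y₀, y₀ z}`: for another `x` take `1 ≠ v` fixed by `y₀`,
`u = v (x • v)`; if `u ≠ 1` then `1, y₀, x ∈ Q_u`, and if `u = 1` then `1, y₀, x z ∈ Q_v`. So `2 N ≤ |Q|`, and `Ln.cnt` with
`b = 2` gives `d ≤ m - 1`. -/
theorem Ln.even (h : Ln V K) (hY : Y ⊔ K = ⊤) (qy : Q ≤ Y) (qk : Q ≤ K) (qn : Y ≤ normalizer (Q : Set H))
    (s : Str V 2 Q) : (K.index + 1) ^ 2 ≤ Nat.card V := by
  obtain ⟨y, yQ, y1, ny⟩ := s.ex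
  have sq : ∀ x ∈ Q, x ≠ 1 → Nat.card (fx V x) ≤ Nat.sqrt (Nat.card V) := by
    intro x xQ x1
    rw [Nat.le_sqrt']
    by_cases f : Fp V x
    · rw [fx_one f]
      exact Nat.card_pos
    obtain ⟨-, g, gQ, c, -, c1, -, cc, cf, e⟩ := s.cj x xQ x1 f
    refine pow_le (cc x xQ) (cc g gQ) (fun i i0 i3 => cf i ?_) e
    rwa [show i = 1 by omega, pow_one]
  obtain ⟨t, ht⟩ : ∃ t, Nat.sqrt (Nat.card V) = t + 1 :=
    ⟨_, (Nat.succ_pred_eq_of_pos (Nat.sqrt_pos.2 Nat.card_pos)).symm⟩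
  suffices d : K.index ≤ t by
    refine le_trans ?_ (Nat.sqrt_le' (Nat.card V))
    rw [ht]
    gcongr
  obtain ⟨y2, g, gQ, z, zQ, z1, z2, zc, zf, e⟩ := s.cj y yQ y1 ny
  have zf1 : Fp V z := by simpa using zf 1 (by simpa using z1)
  have fix2 : ∀ x : H, x ^ 2 = 1 → ∀ v : V, x • (v * x • v) = v * x • v := fun x x2 v => by
    rw [smul_mul', ← mul_smul, ← pow_two, x2, one_smul, mul_comm]
  have zi : ∀ v : V, z • v = v⁻¹ := fun v => eq_inv_of_mul_eq_one_right (zf1 _ (fix2 z z2 v))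
  obtain ⟨v, hv, v1⟩ : ∃ v : V, y • v = v ∧ v ≠ 1 := by
    by_contra c
    push Not at c
    exact ny c
  obtain ⟨S, hS⟩ : ∃ S, S = {y : H | y ∈ Q ∧ y ≠ 1 ∧ ¬ Fp V y} := ⟨_, rfl⟩
  obtain ⟨I, hI⟩ : ∃ I, I = {x : H | x ∈ Q ∧ x ^ 2 = 1} := ⟨_, rfl⟩
  obtain ⟨J, hJ⟩ : ∃ J, J = {x : H | (x ∈ Q ∧ x ^ 2 = 1) ∧ x * y = y * x} := ⟨_, rfl⟩
  have n1 : S.ncard + 2 ≤ I.ncard := by
    have d : Disjoint S {1, z} := by
      rw [hS]
      refine Set.disjoint_left.2 ?_
      rintro x ⟨-, x1, xf⟩ (rfl | rfl)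
      · exact x1 rfl
      · exact xf zf1
    rw [← Set.ncard_pair z1.symm, ← Set.ncard_union_eq d]
    refine Set.ncard_le_ncard ?_
    rw [hS, hI]
    rintro x (⟨xQ, x1, xf⟩ | rfl | rfl)
    · exact ⟨xQ, (s.cj x xQ x1 xf).1⟩
    · exact ⟨Q.one_mem, one_pow _⟩
    · exact ⟨zQ, z2⟩
  have n2 : 2 * I.ncard ≤ Nat.card Q + J.ncard := by
    have c1 : ((fun x => x * y) '' I).ncard = I.ncard :=
      Set.ncard_image_of_injective _ (mul_left_injective y)
    have c2 := Set.ncard_union_add_ncard_inter I ((fun x => x * y) '' I)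
    have c3 : (I ∪ (fun x => x * y) '' I).ncard ≤ Nat.card Q := le_card (by
      rw [hI]
      rintro x (hx | ⟨x, hx, rfl⟩)
      · exact hx.1
      · exact Q.mul_mem hx.1 yQ)
    have c4 : (I ∩ (fun x => x * y) '' I).ncard ≤ J.ncard := Set.ncard_le_ncard (by
      rw [hI, hJ]
      rintro _ ⟨hx, x, hx', rfl⟩
      refine ⟨hx, ?_⟩
      have i1 : x⁻¹ = x := inv_eq_of_mul_eq_one_right (by rw [← pow_two, hx'.2])
      have i2 : y⁻¹ = y := inv_eq_of_mul_eq_one_right (by rw [← pow_two, y2])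
      have i3 : (x * y)⁻¹ = x * y := inv_eq_of_mul_eq_one_right (by rw [← pow_two]; exact hx.2)
      rw [mul_inv_rev, i1, i2] at i3
      show x * y * y = y * (x * y)
      rw [← mul_assoc, i3])
    omega
  have q0 : 0 < Nat.card Q := Nat.card_pos
  by_cases big : ∃ u : V, u ≠ 1 ∧ 4 ≤ Nat.card (Q ⊓ stabilizer H u : Subgroup H)
  · obtain ⟨u, u1, b4⟩ := big
    have n3 : 2 * J.ncard ≤ Nat.card Q := by
      have c1 : J.ncard ≤ Nat.card (Q ⊓ centralizer {y} : Subgroup H) := le_card (by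
        rw [hJ]
        exact fun x hx => ⟨hx.1.1, mem_centralizer_singleton_iff.2 hx.2⟩)
      obtain ⟨k, hk⟩ := card_dvd_of_le (inf_le_left : Q ⊓ centralizer {y} ≤ Q)
      have k1 : k ≠ 1 := by
        rintro rfl
        have := eq_of_le_of_card_ge (inf_le_left : Q ⊓ centralizer {y} ≤ Q) (by omega)
        have gc := mem_centralizer_singleton_iff.1 (this.ge gQ).2
        rw [gc, mul_inv_cancel_right, left_eq_mul] at e
        exact z1 e
      have k0 : k ≠ 0 := by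
        rintro rfl
        omega
      have : 2 ≤ k := by omega
      nlinarith
    have c := h.cnt hY qy qk qn u1 rfl sq
    rw [← hS, ht] at c
    obtain ⟨b, hb⟩ : ∃ b, Nat.card (Q ⊓ stabilizer H u : Subgroup H) = b + 1 := ⟨_, (Nat.succ_pred_eq_of_pos Nat.card_pos).symm⟩
    rw [hb] at c b4
    simp only [Nat.add_sub_cancel] at c
    have n4 : 4 * S.ncard ≤ 3 * Nat.card Q := by omega
    have c1 : 3 * (b + 1) * Nat.card Q * K.index ≤ 3 * (b + 1) * Nat.card Q * t := by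
      calc _ ≤ 4 * b * Nat.card Q * K.index := by gcongr ?_ * _ * _; omega
        _ = 4 * (K.index * Nat.card Q * b) := by ring
        _ ≤ 4 * ((b + 1) * (S.ncard * t)) := by gcongr
        _ = (b + 1) * (4 * S.ncard) * t := by ring
        _ ≤ (b + 1) * (3 * Nat.card Q) * t := by gcongr
        _ = _ := by ring
    exact Nat.le_of_mul_le_mul_left c1 (by positivity)
  have sm : ∀ u : V, u ≠ 1 → Nat.card (Q ⊓ stabilizer H u : Subgroup H) ≤ 2 := by
    intro u u1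
    obtain ⟨k, hk⟩ := pw Nat.prime_two s.pg (stabilizer H u)
    have : ¬ 4 ≤ 2 ^ k := fun c => big ⟨u, u1, hk ▸ c⟩
    rw [hk]
    rcases k with _ | _ | k
    · norm_num
    · norm_num
    · exact absurd (by rw [pow_add, pow_add]; nlinarith [Nat.one_le_two_pow (n := k)]) this
  have n3 : J.ncard ≤ 4 := by
    have : J ⊆ {1, z, y, y * z} := by
      rw [hJ]
      rintro x ⟨⟨xQ, x2⟩, xy⟩
      by_cases x1 : x = 1
      · exact .inl x1
      by_cases u1 : v * x • v = 1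
      · by_cases xz : x * z = 1
        · exact .inr (.inl (by
            rw [eq_inv_of_mul_eq_one_left xz]
            exact inv_eq_of_mul_eq_one_right (by rw [← pow_two, z2])))
        have : x * z = y := three (sm v v1) ⟨Q.mul_mem xQ zQ, show (x * z) • v = v by
          rw [mul_smul, zi, smul_inv', eq_inv_of_mul_eq_one_right u1, inv_inv]⟩ ⟨yQ, hv⟩ xz y1
        exact .inr (.inr (.inr (by
          rw [Set.mem_singleton_iff, ← this, mul_assoc, ← pow_two, z2, mul_one])))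
      · exact .inr (.inr (.inl (three (sm _ u1) ⟨xQ, fix2 x x2 v⟩ ⟨yQ, show y • (v * x • v) = _ by
          rw [smul_mul', ← mul_smul, ← xy, mul_smul, hv]⟩ x1 y1)))
    refine (Set.ncard_le_ncard this).trans ?_
    refine (Set.ncard_insert_le _ _).trans (Nat.succ_le_succ ?_)
    refine (Set.ncard_insert_le _ _).trans (Nat.succ_le_succ ?_)
    refine (Set.ncard_insert_le _ _).trans (Nat.succ_le_succ ?_)
    rw [Set.ncard_singleton]
  have b2 : Nat.card (Q ⊓ stabilizer H v : Subgroup H) = 2 := by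
    have := sm v v1
    have := ne_one (L := Q ⊓ stabilizer H v) ⟨yQ, hv⟩ y1
    have : 0 < Nat.card (Q ⊓ stabilizer H v : Subgroup H) := Nat.card_pos
    omega
  have c := h.cnt hY qy qk qn v1 b2 sq
  rw [← hS, ht] at c
  simp only [Nat.add_sub_cancel] at c
  have c1 : Nat.card Q * K.index ≤ Nat.card Q * t := by
    calc _ = K.index * Nat.card Q * (2 - 1) := by ring
      _ ≤ 2 * S.ncard * t := by rw [mul_assoc 2]; exact c
      _ ≤ _ := by gcongr; omega
  exact Nat.le_of_mul_le_mul_left c1 q0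

end CL.DI
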