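import Cfsg.Agent.PERM.DI.LinB
import Cfsg.Agent.PERM.DI.LinC
import Cfsg.Agent.PERM.DI.LinD

set_option autoImplicit false
set_option linter.unusedSectionVars false

namespace CL.DI

open Subgroup MulAction

variable {H V : Type*} [Group H] [Finite H] [CommGroup V] [Finite V] [MulDistribMulAction H V] {K : Subgroup H}

/-- **The coprime affine bound.** -/
theorem Ln.main (h : Ln V K) (ex : ∃ y : H, y ≠ 1 ∧ ¬ Fp V y) : (K.index + 1) ^ 2 ≤ Nat.card V := by
  classical
  obtain ⟨y, y1, hy⟩ := ex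
  have := h.nrm
  have yK : y ∈ K := by_contra fun c => hy (h.fp y c)
  have ho : orderOf y ≠ 1 := fun c => y1 (orderOf_eq_one_iff.1 c)
  obtain ⟨p, hp, m, hm⟩ := Nat.exists_prime_and_dvd ho
  have := Fact.mk hp
  have o0 := orderOf_pos y
  have m0 : 0 < m := Nat.pos_of_ne_zero fun c => by rw [c, mul_zero] at hm; omega
  set x := y ^ m with hx
  have x1 : x ≠ 1 := fun c => by
    have := Nat.le_of_dvd m0 (orderOf_dvd_of_pow_eq_one c)
    nlinarith [hp.two_le]
  have xp : x ^ p = 1 := by rw [hx, ← pow_mul, mul_comm, ← hm, pow_orderOf_eq_one]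
  have xf : ¬ Fp V x := fun c => hy fun v e => c v (mem_stabilizer_iff.1 (pow_mem (mem_stabilizer_iff.2 e) m))
  have ox : orderOf x = p := orderOf_eq_prime xp x1
  have cop : p.Coprime (Nat.card V) := h.cop.coprime_dvd_left (ox ▸ orderOf_dvd_natCard x)
  have xK : x ∈ K := pow_mem yK m
  have pz : IsPGroup p (zpowers (⟨x, xK⟩ : K)) :=
    IsPGroup.of_card (n := 1) (by rw [Nat.card_zpowers, ← Subgroup.orderOf_coe, pow_one]; exact ox)
  obtain ⟨S, hS⟩ := pz.exists_le_sylow
  set P : Subgroup H := (S : Subgroup K).map K.subtype with hP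
  have pk : P ≤ K := map_subtype_le _
  have pg : IsPGroup p P := S.isPGroup'.map _
  have xP : x ∈ P := ⟨_, hS (mem_zpowers _), rfl⟩
  have hY : normalizer (P : Set H) ⊔ K = ⊤ := S.normalizer_sup_eq_top
  have py : P ≤ normalizer (P : Set H) := le_normalizer
  by_cases hi : Irr V (normalizer (P : Set H))
  swap
  · exact h.red hY hi
  by_cases ab : ∀ A : Subgroup H, A ≤ P → normalizer (P : Set H) ≤ normalizer (A : Set H) →
      (∀ a ∈ A, ∀ b ∈ A, a * b = b * a) → ∀ y ∈ A, y ≠ 1 → Fp V y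
  swap
  · push Not at ab
    obtain ⟨A, a1, a2, a3, a4⟩ := ab
    exact h.ab hY hi (a1.trans py) (a1.trans pk) a2 a3 a4
  obtain ⟨Q, q1, q2, s⟩ := exists_str hp cop pg le_rfl ⟨x, xP, x1, xf⟩ ab
  by_cases p2 : p = 2
  · subst p2
    exact h.even hY (q1.trans py) (q1.trans pk) q2 s
  · exact h.odd hY (q1.trans py) (q1.trans pk) q2 hp p2 s

end CL.DI
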