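import Cfsg.Agent.PERM.DI.Defs
import Cfsg.Agent.S3549
import Cfsg.Agent.PERM.PermMod

set_option autoImplicit false
set_option maxHeartbeats 200000
set_option linter.unusedSectionVars false

namespace CL.DI

open Subgroup MulAction

variable {G Ω : Type*} [Group G] [Finite G] [MulAction G Ω] [Finite Ω] {D : Subgroup G}

theorem Ex.imp [FaithfulSMul G Ω] (h : Ex Ω D) {Y : Subgroup G} (hY : Y ⊔ D = ⊤) (tr : IsPretransitive Y Ω)
    (hi : ¬ IsPreprimitive Y Ω) : (D.index + 1) ^ 2 ≤ Nat.card Ω := by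
  classical
  have := h.nrm
  have := tr
  have h1 := Cfsg.Agent.S3549.result (G := Y) (Ω := Ω) tr hi
  have hle : Subgroup.closure {g : Y | ∀ ω : Ω, g • ω ≠ ω} ≤ D.subgroupOf Y := by
    rw [Subgroup.closure_le]
    intro g hg
    exact h.der (g : G) hg
  have hd : D.index ≤ (Subgroup.closure {g : Y | ∀ ω : Ω, g • ω ≠ ω}).index := by
    have e : (D.subgroupOf Y).index = D.index := by
      have := Subgroup.relIndex_sup_right Y D
      rw [hY, Subgroup.relIndex_top_right] at this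
      exact this.symm
    rw [← e]
    exact Nat.le_of_dvd (Nat.pos_of_ne_zero Subgroup.index_ne_zero_of_finite) (Subgroup.index_dvd_of_le hle)
  have h2 : ((D.index : ℝ) + 1) ≤ Real.sqrt (Nat.card Ω) := by
    have : (D.index : ℝ) ≤ ((Subgroup.closure {g : Y | ∀ ω : Ω, g • ω ≠ ω}).index : ℝ) := by exact_mod_cast hd
    linarith
  have h3 : ((D.index : ℝ) + 1) ^ 2 ≤ (Nat.card Ω : ℝ) :=
    (Real.le_sqrt (by positivity) (by positivity)).1 h2
  exact_mod_cast h3

theorem Ex.reg [FaithfulSMul G Ω] (h : Ex Ω D) {r k : ℕ} (hr : r.Prime) (hk : 0 < k) (hn : Nat.card Ω = r ^ k)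
    (hlt : Nat.card Ω < (D.index + 1) ^ 2) : ∃ R : Subgroup G, Reg Ω D R r := by
  classical
  have := h.nrm
  have : Fact r.Prime := ⟨hr⟩
  have trG : IsPretransitive G Ω := ⟨fun a b => by
    obtain ⟨g, -, hg⟩ := h.tr a b
    exact ⟨g, hg⟩⟩
  have hn1 : 1 < Nat.card Ω := by
    rw [hn]; exact Nat.one_lt_pow hk.ne' hr.one_lt
  have : Nontrivial Ω := Finite.one_lt_card_iff_nontrivial.1 hn1
  obtain ⟨α, β, hαβ⟩ := exists_pair_ne Ω
  have hrD : ¬ r ∣ D.index := by
    intro hd
    have h1 := CL.Perm.index_dvd_ncard_of_derang_le D h.der α ({α}ᶜ) (by simp) (by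
      intro g hg x hx hx'
      apply hx
      rw [Set.mem_singleton_iff] at hx' ⊢
      exact smul_left_cancel g (hx'.trans hg.symm))
    have h2 : ({α}ᶜ : Set Ω).ncard + 1 = Nat.card Ω := by
      have := Set.ncard_add_ncard_compl ({α} : Set Ω)
      rw [Set.ncard_singleton] at this
      omega
    have h3 : r ∣ Nat.card Ω := by rw [hn]; exact dvd_pow_self r hk.ne'
    rw [← h2] at h3
    exact hr.one_lt.ne' (Nat.dvd_one.1 ((Nat.dvd_add_right (hd.trans h1)).1 h3))
  obtain ⟨P⟩ : Nonempty (Sylow r G) := inferInstance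
  have hPD : (P : Subgroup G) ≤ D := by
    intro x hx
    obtain ⟨m, hm⟩ := P.isPGroup' ⟨x, hx⟩
    have hm' : x ^ r ^ m = 1 := by simpa using congrArg Subtype.val hm
    have o1 : orderOf (x : G ⧸ D) ∣ r ^ m := by
      apply orderOf_dvd_of_pow_eq_one
      rw [← QuotientGroup.mk_pow, hm']; rfl
    have o2 : orderOf (x : G ⧸ D) ∣ D.index := orderOf_dvd_natCard _
    have o3 : (r ^ m).Coprime D.index := Nat.Coprime.pow_left m ((Nat.Prime.coprime_iff_not_dvd hr).2 hrD)
    have : orderOf (x : G ⧸ D) = 1 := Nat.eq_one_of_dvd_coprimes o3 o1 o2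
    exact (QuotientGroup.eq_one_iff x).1 (orderOf_eq_one_iff.1 this)
  have trP : ∀ a b : Ω, ∃ g ∈ (P : Subgroup G), g • a = b := by
    intro a b
    obtain ⟨g, hg⟩ := (CL.PermMod.sylow_pretransitive hn P).exists_smul_eq a b
    exact ⟨g, g.2, hg⟩
  have sup : normalizer ((P : Subgroup G) : Set G) ⊔ D = ⊤ := Sylow.normalizer_sup_eq_top' P hPD
  set X := normalizer ((P : Subgroup G) : Set G) with hX
  have trX : IsPretransitive X Ω := ⟨fun a b => by
    obtain ⟨g, hg, e⟩ := trP a b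
    exact ⟨⟨g, Subgroup.le_normalizer hg⟩, e⟩⟩
  have prX : IsPreprimitive X Ω := by
    by_contra hi
    have := h.imp sup trX hi
    omega
  set Z : Subgroup G := (P : Subgroup G) ⊓ centralizer ((P : Subgroup G) : Set G) with hZ
  have nZ : (Z.subgroupOf X).Normal := ⟨fun z hz g => by
    rw [Subgroup.mem_subgroupOf] at hz ⊢
    have hg := g.2
    have hg1 := Subgroup.mem_normalizer_iff.1 hg
    have hg2 := Subgroup.mem_normalizer_iff.1 (X.inv_mem hg)
    refine ⟨(hg1 z).1 hz.1, ?_⟩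
    intro y hy
    have hy' := (hg2 y).1 hy
    have := hz.2 _ hy'
    simp only [Subgroup.coe_mul, Subgroup.coe_inv, inv_inv] at this ⊢
    calc y * ((g : G) * z * (g : G)⁻¹) = g * (((g : G)⁻¹ * y * g) * z) * (g : G)⁻¹ := by group
      _ = g * (z * ((g : G)⁻¹ * y * g)) * (g : G)⁻¹ := by rw [this]
      _ = (g : G) * z * (g : G)⁻¹ * y := by group⟩
  have : Nontrivial (P : Subgroup G) := by
    obtain ⟨g, hg, e⟩ := trP α β
    refine ⟨⟨⟨g, hg⟩, 1, fun h1 => hαβ ?_⟩⟩
    have : g = 1 := congrArg Subtype.val h1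
    rw [← e, this, one_smul]
  obtain ⟨z, hz, z1⟩ : ∃ z ∈ Z, z ≠ 1 := by
    have := P.isPGroup'.center_nontrivial
    obtain ⟨⟨z, hz⟩, z1⟩ := exists_ne (1 : center (P : Subgroup G))
    refine ⟨z, ⟨z.2, fun y hy => ?_⟩, fun e => z1 (Subtype.ext (Subtype.ext e))⟩
    exact congrArg Subtype.val (Subgroup.mem_center_iff.1 hz ⟨y, hy⟩)
  have trZ : ∀ a b : Ω, ∃ g ∈ Z, g • a = b := by
    have hZX : Z ≤ X := fun g hg => Subgroup.le_normalizer hg.1
    have := IsQuasiPreprimitive.isPretransitive_of_normal (G := X) (X := Ω) (N := Z.subgroupOf X) (by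
      intro e
      apply z1
      apply FaithfulSMul.eq_of_smul_eq_smul (α := Ω)
      intro a
      have ha : a ∈ fixedPoints (Z.subgroupOf X) Ω := by rw [e]; trivial
      rw [one_smul]
      exact ha ⟨⟨z, hZX hz⟩, hz⟩)
    intro a b
    obtain ⟨g, hg⟩ := this.exists_smul_eq a b
    exact ⟨g, g.2, hg⟩
  have free : ∀ g ∈ (P : Subgroup G), ∀ a : Ω, g • a = a → g = 1 := by
    intro g hg a ha
    apply FaithfulSMul.eq_of_smul_eq_smul (α := Ω)
    intro b
    obtain ⟨y, hy, rfl⟩ := trZ a b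
    rw [one_smul, ← mul_smul, hy.2 g hg, mul_smul, ha]
  refine ⟨P, hr, P.isPGroup', P.not_dvd_index, hPD, ?_, trP, free, sup⟩
  intro a ha b hb
  obtain ⟨y, hy, e⟩ := trZ α (a • α)
  have : y⁻¹ * a = 1 := free _ (mul_mem (inv_mem hy.1) ha) α (by rw [mul_smul, ← e, inv_smul_smul])
  rw [← inv_mul_eq_one.1 this]
  exact (hy.2 b hb).symm

theorem Reg.cc [FaithfulSMul G Ω] {R : Subgroup G} {r : ℕ} (hR : Reg Ω D R r) (α : Ω)
    (hf : ∀ g ∈ normalizer (R : Set G), g • α = α → ∀ x ∈ R, g * x = x * g → g = 1 ∨ x = 1)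
    {x : G} (hx : x ∈ R) (x1 : x ≠ 1) {g : G} (hg : g * x = x * g) : g ∈ R := by
  classical
  have : Fact r.Prime := ⟨hR.pr⟩
  set C := centralizer ({x} : Set G) with hC
  have mC : ∀ y : G, y ∈ C ↔ y * x = x * y := by
    intro y
    rw [hC, Subgroup.mem_centralizer_iff]
    simp only [Set.mem_singleton_iff, forall_eq]
    exact eq_comm
  have RC : R ≤ C := fun a ha => (mC a).2 (hR.comm a ha x hx)
  have p1 : IsPGroup r (R.subgroupOf C) := hR.pg.comap_subtype
  have p2 : ¬ r ∣ (R.subgroupOf C).index := fun hd => hR.nd (hd.trans (Subgroup.relIndex_dvd_index_of_le RC))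
  set P : Sylow r C := p1.toSylow p2 with hP
  have mP : ∀ y : C, y ∈ (P : Subgroup C) ↔ (y : G) ∈ R := fun y => Iff.rfl
  have hNC : normalizer ((P : Subgroup C) : Set C) ≤ centralizer ((P : Subgroup C) : Set C) := by
    intro y hy
    have hyN : (y : G) ∈ normalizer (R : Set G) := by
      rw [Subgroup.mem_normalizer_iff]
      intro a
      constructor
      · intro ha
        exact (Subgroup.mem_normalizer_iff.1 hy ⟨a, RC ha⟩).1 ha
      · intro ha
        have haC : a ∈ C := by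
          have := C.mul_mem (C.mul_mem (C.inv_mem y.2) (RC ha)) y.2
          simpa [mul_assoc] using this
        exact (Subgroup.mem_normalizer_iff.1 hy ⟨a, haC⟩).2 ha
    obtain ⟨a, ha, e⟩ := hR.tr α ((y : G) • α)
    have h1 := hf (a⁻¹ * y) (mul_mem (inv_mem (Subgroup.le_normalizer ha)) hyN)
      (by rw [mul_smul, ← e, inv_smul_smul]) x hx ((mC _).1 (mul_mem (inv_mem (RC ha)) y.2))
    have h2 : (y : G) ∈ R := by
      rw [← inv_mul_eq_one.1 (h1.resolve_right x1)]; exact ha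
    intro b hb
    exact Subtype.ext (hR.comm _ hb _ h2)
  have hc := MonoidHom.ker_transferSylow_isComplement' P hNC
  set L := (MonoidHom.transferSylow P hNC).ker with hL
  have nL : L.Normal := MonoidHom.normal_ker _
  have trC : IsPretransitive C Ω := ⟨fun a b => by
    obtain ⟨g, hg, e⟩ := hR.tr a b
    exact ⟨⟨g, RC hg⟩, e⟩⟩
  have trR : IsPretransitive R Ω := ⟨fun a b => by
    obtain ⟨g, hg, e⟩ := hR.tr a b
    exact ⟨⟨g, hg⟩, e⟩⟩
  obtain ⟨m, hm⟩ := IsPGroup.iff_card.1 hR.pg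
  have d1 : Nat.card Ω ∣ r ^ m := by
    rw [← hm, ← index_stabilizer_of_transitive R α]
    exact Subgroup.index_dvd_card _
  have cL : Nat.card L = (P : Subgroup C).index := hc.index_eq_card.symm
  have cop : (r ^ m).Coprime (Nat.card L) := by
    rw [cL]
    exact Nat.Coprime.pow_left m ((Nat.Prime.coprime_iff_not_dvd hR.pr).2 P.not_dvd_index)
  have Lb : L = ⊥ := by
    rw [eq_bot_iff]
    intro l hl
    rw [Subgroup.mem_bot]
    apply Subtype.ext
    apply FaithfulSMul.eq_of_smul_eq_smul (α := Ω)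
    intro b
    have o1 : (orbit L b).ncard ∣ r ^ m :=
      ((IsBlock.orbit_of_normal (G := C) (N := L) b).ncard_dvd_card ⟨b, mem_orbit_self b⟩).trans d1
    have o2 : (orbit L b).ncard ∣ Nat.card L := by
      rw [← index_stabilizer]; exact Subgroup.index_dvd_card _
    have o3 := Nat.eq_one_of_dvd_coprimes cop o1 o2
    rw [← index_stabilizer, Subgroup.index_eq_one] at o3
    have : (⟨l, hl⟩ : L) ∈ stabilizer L b := by rw [o3]; trivial
    rw [OneMemClass.coe_one, one_smul]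
    exact this
  have Pt : (P : Subgroup C) = ⊤ := by
    rw [← Subgroup.index_eq_one, ← cL, Lb, Subgroup.card_bot]
  have : (⟨g, (mC g).2 hg⟩ : C) ∈ (P : Subgroup C) := by rw [Pt]; trivial
  exact this

end CL.DI
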