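import Cfsg.Agent.PERM.DI.Prm
import Cfsg.Agent.PERM.DI.Reg
import Cfsg.Agent.PERM.DI.LinE
import Cfsg.Agent.PERM.DI.CB
import Cfsg.Agent.S3546

set_option autoImplicit false
set_option linter.unusedSectionVars false

namespace CL.DI

open Subgroup MulAction

variable {G Ω : Type*} [Group G] [Finite G] [MulAction G Ω] [Finite Ω] [FaithfulSMul G Ω] {D R : Subgroup G} {r : ℕ}

/-- the subgroup generated by the derangements -/
theorem ex_closure (tr : IsPretransitive G Ω) : Ex Ω (closure {g : G | ∀ ω : Ω, g • ω ≠ ω}) := by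
  obtain ⟨h1, h2⟩ := Cfsg.Agent.S3546.result (G := G) (Ω := Ω) tr
  refine ⟨CL.Perm.derang_normal G Ω, fun a b => ?_, fun g hg a b ea eb => ?_, fun g hg => subset_closure hg⟩
  · obtain ⟨g, e⟩ := h1.exists_smul_eq a b
    exact ⟨g.1, g.2, e⟩
  · have c : Nat.card (fixedBy Ω g) = 1 := by_contra fun c => hg (h2 g c)
    have := (Nat.card_eq_one_iff_unique.1 c).1
    exact congrArg Subtype.val (Subsingleton.elim (⟨a, ea⟩ : fixedBy Ω g) ⟨b, eb⟩)

theorem Reg.card (hR : Reg Ω D R r) (α : Ω) : Nat.card R = Nat.card Ω := by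
  refine Nat.card_congr (Equiv.ofBijective (fun g : R => g.1 • α) ⟨fun a b e => ?_, fun b => ?_⟩)
  · have := hR.free _ (mul_mem (inv_mem b.2) a.2) α (by rw [mul_smul, show a.1 • α = b.1 • α from e, inv_smul_smul])
    exact Subtype.ext (inv_mul_eq_one.1 this).symm
  · obtain ⟨g, hg, e⟩ := hR.tr α b
    exact ⟨⟨g, hg⟩, e⟩

/-- an element of the normalizer of `R` that fixes a point and centralizes an element of `R` -/
theorem Reg.nfpf (h : Ex Ω D) (hR : Reg Ω D R r) (α : Ω) {g x : G} (gn : g ∈ normalizer (R : Set G))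
    (ga : g • α = α) (g1 : g ≠ 1) (hx : x ∈ R) (x1 : x ≠ 1) (e : g * x = x * g) :
    (D.index + 1) ^ 2 ≤ Nat.card Ω := by
  have := h.nrm
  have := Fact.mk hR.pr
  set H : Subgroup G := normalizer (R : Set G) ⊓ stabilizer G α with hH
  let _ : CommGroup R := { (inferInstance : Group R) with mul_comm := fun a b => Subtype.ext (hR.comm _ a.2 _ b.2) }
  let _ : MulDistribMulAction H R :=
    MulDistribMulAction.compHom R (R.normalizerMonoidHom.comp (inclusion (inf_le_left : H ≤ _)))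
  have sm : ∀ (k : H) (v : R), (k • v : R).1 = k.1 * v.1 * k.1⁻¹ := fun _ _ => rfl
  have fx : ∀ (k : H) (v : R), k • v = v ↔ k.1 * v.1 = v.1 * k.1 := fun k v => by
    rw [Subtype.ext_iff, sm, mul_inv_eq_iff_eq_mul]
  have sup : H ⊔ D = ⊤ := by
    rw [eq_top_iff, ← hR.sup]
    refine sup_le (fun y hy => ?_) le_sup_right
    obtain ⟨a, ha, ea⟩ := hR.tr α (y • α)
    rw [show y = a * (a⁻¹ * y) by group]
    refine mul_mem (mem_sup_right (hR.le ha)) (mem_sup_left (mem_inf.2 ⟨mul_mem (inv_mem (le_normalizer ha)) hy, ?_⟩))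
    rw [mem_stabilizer_iff, mul_smul, ← ea, inv_smul_smul]
  have ix : (D.subgroupOf H).index = D.index := by
    rw [← relIndex, ← relIndex_sup_right, sup, relIndex_top_right]
  have L : Ln R (D.subgroupOf H) := by
    refine ⟨inferInstance, fun k hk => ?_, ?_, fun k hk v hv => ?_⟩
    · refine Subtype.ext (eq_of_smul_eq_smul (α := Ω) fun b => ?_)
      obtain ⟨a, ha, rfl⟩ := hR.tr α b
      rw [← mul_smul, (fx k ⟨a, ha⟩).1 (hk _), mul_smul, show k.1 • α = α from k.2.2]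
      simp
    · obtain ⟨n, hn⟩ := hR.pg.exists_card_eq
      rw [hn]
      refine Nat.Coprime.pow_right _ ((Nat.Prime.coprime_iff_not_dvd hR.pr).2 fun c => hR.nd (c.trans ?_)).symm
      have b : R.subgroupOf H = ⊥ := eq_bot_iff.2 fun k hk => Subtype.ext (hR.free _ hk α k.2.2)
      have c1 : R.relIndex H = Nat.card H := by rw [relIndex, b, index_bot]
      have nr : (R.subgroupOf (normalizer (R : Set G))).Normal := normal_in_normalizer
      have c2 := relIndex_dvd_index_of_normal (R.subgroupOf (normalizer (R : Set G)))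
        (H.subgroupOf (normalizer (R : Set G)))
      rw [relIndex_subgroupOf (inf_le_left : H ≤ _), c1] at c2
      exact c2.trans (relIndex_dvd_index_of_le le_normalizer)
    · have e := (fx k v).1 hv
      have := h.one k.1 hk α (v.1 • α) k.2.2 (by rw [← mul_smul, e, mul_smul, show k.1 • α = α from k.2.2])
      exact Subtype.ext (hR.free _ v.2 α this.symm)
  rw [← ix, ← hR.card α]
  exact L.main ⟨⟨g, gn, ga⟩, fun c => g1 (congrArg Subtype.val c),
    fun c => x1 (congrArg Subtype.val (c ⟨x, hx⟩ ((fx _ _).2 e)))⟩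

/-- **A large index forces a Frobenius group with abelian kernel.** -/
theorem Ex.frob (h : Ex Ω D) (h2 : 2 ≤ Nat.card Ω) (hd : 2 ≤ D.index) (hlt : Nat.card Ω < (D.index + 1) ^ 2) :
    (∃ R : Subgroup G, R.Normal ∧ IsMulCommutative R ∧ R ≠ ⊥) ∧ (∃ g : G, g ≠ 1 ∧ ∃ ω : Ω, g • ω = ω) ∧
      ∀ g : G, g ≠ 1 → Nat.card (fixedBy Ω g) ≤ 1 := by
  obtain ⟨r, k, hr, hk, hn⟩ := h.primePow h2 hlt
  obtain ⟨R, hR⟩ := h.reg hr hk hn hlt
  have hf : ∀ α : Ω, ∀ g ∈ normalizer (R : Set G), g • α = α → ∀ x ∈ R, g * x = x * g → g = 1 ∨ x = 1 := by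
    intro α g gn ga x hx e
    by_contra c
    rw [not_or] at c
    exact hlt.not_ge (hR.nfpf h α gn ga c.1 hx c.2 e)
  obtain ⟨g, hg⟩ : ∃ g : G, g ∉ D := by
    by_contra c
    push Not at c
    rw [(eq_top_iff' D).2 c, index_top] at hd
    omega
  obtain ⟨a, ha⟩ : ∃ a : Ω, g • a = a := by
    by_contra c
    push Not at c
    exact hg (h.der g c)
  have : Nontrivial Ω := Finite.one_lt_card_iff_nontrivial.1 h2
  obtain ⟨b, hb⟩ := exists_ne a
  have nD : (R.subgroupOf D).Normal := by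
    refine cc_normal (Ω := Ω) (fun x hx y hy => Subtype.ext (hR.comm _ hx _ hy)) (fun x y => ?_)
      (fun x hx y e => Subtype.ext (hR.free _ hx y e))
      (fun x hx x1 y e => hR.cc a (hf a) hx (fun c => x1 (Subtype.ext c)) (congrArg Subtype.val e))
      ⟨a, b, g • b, hb, fun c => hb (smul_left_cancel g (c.trans ha.symm)), fun y ya yb => ?_⟩
    · obtain ⟨u, hu, e⟩ := hR.tr x y
      exact ⟨⟨u, hR.le hu⟩, hu, e⟩
    · refine hb (h.one (g⁻¹ * y.1) (fun c => hg ?_) b a ?_ ?_)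
      · simpa using mul_mem y.2 (inv_mem c)
      · rw [mul_smul, show y.1 • b = g • b from yb, inv_smul_smul]
      · rw [mul_smul, show y.1 • a = a from ya, inv_smul_eq_iff, ha]
  have top : normalizer (R : Set G) = ⊤ := by
    rw [eq_top_iff, ← hR.sup]
    exact sup_le le_rfl ((normal_subgroupOf_iff_le_normalizer hR.le).1 nD)
  have nR : R.Normal := normalizer_eq_top_iff.1 top
  refine ⟨⟨R, nR, ⟨⟨fun x y => Subtype.ext (hR.comm _ x.2 _ y.2)⟩⟩, fun c => ?_⟩,
    ⟨g, fun c => hg (c ▸ one_mem D), a, ha⟩, fun y y1 => ?_⟩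
  · obtain ⟨u, hu, e⟩ := hR.tr a b
    rw [c, mem_bot] at hu
    exact hb (by rw [← e, hu, one_smul])
  · refine Finite.card_le_one_iff_subsingleton.2 ⟨fun u v => Subtype.ext ?_⟩
    obtain ⟨x, hx, e⟩ := hR.tr u.1 v.1
    have eu : y • u.1 = u.1 := u.2
    have ev : y • v.1 = v.1 := v.2
    have c := hR.free _ (mul_mem (inv_mem hx) (nR.conj_mem x hx y)) u.1 (by
      rw [mul_smul, mul_smul, mul_smul, inv_smul_eq_iff.2 eu.symm, e, ev, ← e, inv_smul_smul])
    rcases hf u.1 y (top ▸ mem_top y) eu x hx (mul_inv_eq_iff_eq_mul.1 (inv_mul_eq_one.1 c).symm) with c | c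
    · exact absurd c y1
    · rw [← e, c, one_smul]

theorem le_sqrt {d n : ℕ} (h : (d + 1) ^ 2 ≤ n) : (d : ℝ) ≤ Real.sqrt n - 1 := by
  rw [le_sub_iff_add_le]
  exact Real.le_sqrt_of_sq_le (by exact_mod_cast h)

/-- **The index of the derangement subgroup.** -/
theorem main (tr : IsPretransitive G Ω) (h4 : 4 ≤ Nat.card Ω) :
    ((∃ R : Subgroup G, R.Normal ∧ IsMulCommutative R ∧ R ≠ ⊥) ∧ (∃ g : G, g ≠ 1 ∧ ∃ ω : Ω, g • ω = ω) ∧
      ∀ g : G, g ≠ 1 → Nat.card (fixedBy Ω g) ≤ 1) ∨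
      ((closure {g : G | ∀ ω : Ω, g • ω ≠ ω}).index : ℝ) ≤ Real.sqrt (Nat.card Ω) - 1 := by
  by_cases c : Nat.card Ω < ((closure {g : G | ∀ ω : Ω, g • ω ≠ ω}).index + 1) ^ 2
  · refine .inl ((ex_closure tr).frob (by omega) (by_contra fun c2 => ?_) c)
    have : ((closure {g : G | ∀ ω : Ω, g • ω ≠ ω}).index + 1) ^ 2 ≤ 2 ^ 2 := Nat.pow_le_pow_left (by omega) 2
    omega
  · exact .inr (le_sqrt (not_lt.1 c))

end CL.DI
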