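import Cfsg.Agent.PERM.DI.Defs
import Cfsg.Agent.TECH.SylIn

set_option autoImplicit false
set_option linter.unusedSectionVars false

namespace CL.DI

open Subgroup MulAction CL.MSS CL.Perm

variable {G Ω : Type*} [Group G] [Finite G] [MulAction G Ω] [Finite Ω] {D : Subgroup G}

/-- PROOF. `P` acts on `Δ \ {ω}`; by `h.one` the stabilizer in `P` of a point of it lies in `D ⊓ P`, so every orbit length
is divisible by `|P : D ⊓ P|` (`dvd_ncard_of_dvd_orbits` in `PERM/Derange`). -/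
theorem Ex.dvd (h : Ex Ω D) {P : Subgroup G} {Δ : Set Ω} (hΔ : ∀ g ∈ P, ∀ a ∈ Δ, g • a ∈ Δ) {ω : Ω} (hω : ω ∈ Δ)
    (hP : ∀ g ∈ P, g • ω = ω) : D.relIndex P ∣ Δ.ncard - 1 := by
  rw [← Set.ncard_sdiff_singleton_of_mem hω]
  refine dvd_ncard_of_dvd_orbits (H := P) (Δ \ {ω}) (fun g x hx => (Set.mem_sdiff _).2 ⟨hΔ g g.2 x hx.1, fun e => hx.2 ?_⟩) _
    fun x hx => ?_
  · have e' : (g : G) • x = ω := e
    rw [← hP g g.2] at e'
    exact smul_left_cancel _ e'
  · rw [ncard_suborbit, ← inf_relIndex_right (stabilizer G x)]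
    rw [← inf_relIndex_right D]
    refine relIndex_dvd_of_le_left _ fun g hg => ⟨by_contra fun n => hx.2 (h.one g n x ω hg.1 (hP g hg.2)), hg.2⟩

theorem Prm.card_mul (H K : Subgroup G) : Nat.card (H ⊓ K : Subgroup G) * H.relIndex K = Nat.card K := by
  rw [← inf_relIndex_right, relIndex, ← Nat.card_congr (subgroupOfEquivOfLe (inf_le_right : H ⊓ K ≤ K)).toEquiv,
    card_mul_index]

theorem Prm.idx (hn : D.Normal) {Y : Subgroup G} (hY : ∀ g : G, ∃ n ∈ D, ∃ y ∈ Y, g = n * y) : D.relIndex Y = D.index := by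
  rw [← relIndex_sup_left, ← relIndex_top_right]
  congr 1
  refine eq_top_iff.2 fun g _ => ?_
  obtain ⟨n, hn, y, hy, rfl⟩ := hY g
  exact mul_mem_sup hn hy

/-- **The index is smaller than the `r`-part of the degree.** PROOF. `d = D.index`. Fix `α`, `A = G_α`, let `Q` be a Sylow
`r`-subgroup of `D ⊓ A`, `F` the set of fixed points of `Q`, `X = N_G(Q)`.
(a) `D ⊓ X` is transitive on `F` (Witt: `β = g • α`, `g ∈ D`; `Q` and `g⁻¹ Q g` are Sylow in `D ⊓ A`).
(b) `(X ⊓ A) ⊔ D = ⊤` (Frattini in `A` for `D ⊓ A ⊴ A`, and `G = D A`), so `D.relIndex (X ⊓ A) = d` and `d ∣ |F| - 1` by `Ex.dvd`.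
(c) `r ∣ |F|`, as `|Ω| ≡ |F| (mod r)`.
(d) Let `R` be a Sylow `r`-subgroup of `D ⊓ X`; `Q ≤ R`. For `β ∈ F` the stabilizer `R_β` is an `r`-subgroup of `D_β` containing
`Q`, which is Sylow in `D_β` (`|D_β| = |D_α|`), so `R_β = Q`: all `R`-orbits on `F` have length `m = |R : Q|`. `m` is the `r`-part
of `|F| = |D ⊓ X : D ⊓ X ⊓ A|`, so `m > 1`, and `m ≤ |D|_r / |Q|`, the `r`-part of `|Ω| = |D : D ⊓ A|`.
(e) `Y = X ⊓ N(R)` has `Y ⊔ D = ⊤` (Frattini in `X`). For a prime `p ∣ d` let `P` be a Sylow `p`-subgroup of `Y`;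
`D.relIndex P` is the `p`-part of `d`. `p ∤ |F|`, and `P` permutes the `|F| / m` orbits of `R` on `F`, so it fixes one, `O`, and
then a point of `O` (`p ∤ m`). `Ex.dvd` gives `d_p ∣ m - 1`. Hence `d ∣ m - 1`. -/
theorem Ex.prime_le [Nonempty Ω] (h : Ex Ω D) {r : ℕ} (hr : r.Prime) (hd : r ∣ Nat.card Ω) :
    D.index + 1 ≤ r ^ (Nat.card Ω).factorization r := by
  have := Fact.mk hr
  have := h.nrm
  obtain ⟨α⟩ := ‹Nonempty Ω›
  obtain ⟨Q, hQ⟩ := exists_sylIn r (D ⊓ stabilizer G α)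
  obtain ⟨R, hR, QR⟩ := exists_sylIn_ge hQ.pgroup (le_inf (hQ.le.trans inf_le_left) le_normalizer : Q ≤ D ⊓ normalizer (Q : Set G))
  obtain ⟨T, hT⟩ := exists_sylIn r D
  have n0 : Nat.card Ω ≠ 0 := Nat.card_pos.ne'
  have cD : Nat.card (D ⊓ stabilizer G α : Subgroup G) * Nat.card Ω = Nat.card D := by
    rw [inf_comm, ← Prm.card_mul (stabilizer G α) D, ← ncard_suborbit, ← Set.ncard_univ Ω]
    refine congrArg (fun s : Set Ω => _ * s.ncard) (Set.eq_univ_of_forall fun b => ?_).symm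
    obtain ⟨g, hg, e⟩ := h.tr α b
    exact ⟨⟨g, hg⟩, e⟩
  have cT : Nat.card T = Nat.card Q * r ^ (Nat.card Ω).factorization r := by
    rw [hT.card_eq_pow_factorization, hQ.card_eq_pow_factorization, ← cD, Nat.factorization_mul Nat.card_pos.ne' n0,
      Finsupp.add_apply, pow_add]
  have cR : Nat.card Q * Q.relIndex R = Nat.card R := by rw [← Prm.card_mul Q R, inf_eq_left.2 QR]
  have m1 : Q.relIndex R ≤ r ^ (Nat.card Ω).factorization r :=
    Nat.le_of_mul_le_mul_left (by rw [cR, ← cT]; exact hT.card_le hR.pgroup (hR.le.trans inf_le_left)) Nat.card_pos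
  have m2 : Q.relIndex R ≠ 1 := fun e => by
    have e1 : Q = R := QR.antisymm (relIndex_eq_one.1 e)
    have e2 := (SylIn.of_normalizer (e1 ▸ hR : SylIn r Q (D ⊓ normalizer (Q : Set G)))).card_eq hT
    rw [cT, left_eq_mul₀ Nat.card_pos.ne', Nat.pow_eq_one] at e2
    exact e2.elim hr.ne_one (hr.factorization_pos_of_dvd n0 hd).ne'
  have m3 : Q.relIndex R ≠ 0 := index_ne_zero_of_finite
  let F : Set Ω := {b | ∀ q ∈ Q, q • b = b}
  have FX : ∀ g ∈ normalizer (Q : Set G), ∀ b ∈ F, g • b ∈ F := fun g hg b hb q hq => by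
    have := hb _ ((mem_normalizer_iff''.1 hg q).1 hq)
    rwa [mul_smul, mul_smul, inv_smul_eq_iff] at this
  have dF : D.index ∣ F.ncard - 1 := by
    rw [← Prm.idx h.nrm (Y := normalizer (Q : Set G) ⊓ stabilizer G α) fun g => ?_]
    · exact h.dvd (fun g hg => FX g hg.1) (fun q hq => (hQ.le hq).2) fun g hg => hg.2
    · obtain ⟨k, hk, e⟩ := h.tr (g • α) α
      have e' : k * g ∈ stabilizer G α := by rwa [mem_stabilizer_iff, mul_smul]
      obtain ⟨n, hn, y, hy, e1⟩ := hQ.frattini (x := k * g)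
        (inf_normalizer_le_normalizer_inf ⟨le_normalizer_of_normal (mem_top _), le_normalizer e'⟩)
      exact ⟨k⁻¹ * n, mul_mem (inv_mem hk) hn.1, y, ⟨hy, ((stabilizer G α).mul_mem_cancel_left hn.2).1 (e1 ▸ e')⟩,
        by rw [mul_assoc, ← e1, inv_mul_cancel_left]⟩
  have iY : D.relIndex (normalizer (Q : Set G) ⊓ normalizer (R : Set G)) = D.index := Prm.idx h.nrm fun g => by
    obtain ⟨k, hk, e⟩ := h.tr (g • α) α
    have e' : k * g ∈ stabilizer G α := by rwa [mem_stabilizer_iff, mul_smul]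
    obtain ⟨n, hn, y, hy, e1⟩ := hQ.frattini (x := k * g)
      (inf_normalizer_le_normalizer_inf ⟨le_normalizer_of_normal (mem_top _), le_normalizer e'⟩)
    obtain ⟨n', hn', y', hy', e2⟩ := hR.frattini (x := y)
      (inf_normalizer_le_normalizer_inf ⟨le_normalizer_of_normal (mem_top _), le_normalizer hy⟩)
    exact ⟨k⁻¹ * n * n', mul_mem (mul_mem (inv_mem hk) hn.1) hn'.1, y', ⟨((normalizer (Q : Set G)).mul_mem_cancel_left hn'.2).1 (e2 ▸ hy), hy'⟩,
      by rw [mul_assoc, ← e2, mul_assoc, ← e1, inv_mul_cancel_left]⟩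
  have F0 : 0 < F.ncard := (Set.ncard_pos (Set.toFinite _)).2 ⟨α, fun q hq => (hQ.le hq).2⟩
  have key : D.index ∣ Q.relIndex R - 1 := (Nat.dvd_iff_prime_pow_dvd_dvd _ _).2 fun p k hp hk => by
    rcases Nat.eq_zero_or_pos k with rfl | k0
    · exact one_dvd _
    have := Fact.mk hp
    have pF : ¬ p ∣ Nat.card F := fun e => hp.ne_one (Nat.dvd_one.1 (by
      have := Nat.dvd_sub e (((dvd_pow_self p k0.ne').trans hk).trans dF)
      rwa [Nat.card_coe_set_eq, Nat.sub_sub_self F0] at this))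
    obtain ⟨P, hP⟩ := exists_sylIn p (normalizer (Q : Set G) ⊓ normalizer (R : Set G))
    let _ : MulAction P F :=
      { smul := fun g b => ⟨(g : G) • b.1, FX g (hP.le g.2).1 b b.2⟩
        one_smul := fun b => Subtype.ext (one_smul G b.1)
        mul_smul := fun g g' b => Subtype.ext (mul_smul (g : G) g' b.1) }
    obtain ⟨ω, hω⟩ := hP.pgroup.nonempty_fixed_point_of_prime_not_dvd_card F pF
    have fx : ∀ g ∈ P, g • ω.1 = ω.1 := fun g hg => congrArg Subtype.val (hω ⟨g, hg⟩)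
    have d1 := h.dvd (P := P) (Δ := orbit R ω.1) (by
      rintro g hg _ ⟨s, rfl⟩
      refine ⟨⟨g * s * g⁻¹, (mem_normalizer_iff.1 (hP.le hg).2 s).1 s.2⟩, ?_⟩
      show (g * s * g⁻¹) • ω.1 = g • (s : G) • ω.1
      rw [mul_smul, mul_smul, fx _ (inv_mem hg)]) (mem_orbit_self _) fx
    have s1 : SylIn r Q (D ⊓ stabilizer G ω.1) := by
      obtain ⟨g, hg, e⟩ := h.tr α ω.1
      have := hQ.cj g
      rw [cj_inf, cj_eq_of_normal g D, ← stabilizer_smul_eq_stabilizer_map_conj, e] at this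
      exact this.of_card_le hQ.pgroup (fun q hq => ⟨(hQ.le hq).1, ω.2 q hq⟩) (card_cj g Q).le
    have s2 : stabilizer G ω.1 ⊓ R = Q := s1.max _ (hR.pgroup.to_le inf_le_right) (fun q hq => ⟨ω.2 q hq, QR hq⟩)
      fun q hq => ⟨(hR.le hq.2).1, hq.1⟩
    rw [ncard_suborbit, ← inf_relIndex_right (stabilizer G ω.1), s2] at d1
    refine Dvd.dvd.trans ?_ d1
    have e1 := relIndex_mul_relIndex (D ⊓ P) P _ inf_le_right hP.le
    have e2 := relIndex_dvd_of_le_left (normalizer (Q : Set G) ⊓ normalizer (R : Set G)) (inf_le_left : D ⊓ P ≤ D)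
    rw [iY, ← e1, inf_relIndex_right] at e2
    exact ((hp.coprime_iff_not_dvd.2 hP.not_dvd_relIndex).pow_left k).dvd_of_dvd_mul_right (hk.trans e2)
  have := Nat.le_of_dvd (by omega) key
  omega

/-- PROOF. Two distinct primes `r, s ∣ n` give `(d + 1)² ≤ n_r n_s ≤ n`. -/
theorem Ex.primePow (h : Ex Ω D) (h2 : 2 ≤ Nat.card Ω) (hlt : Nat.card Ω < (D.index + 1) ^ 2) :
    ∃ r k : ℕ, r.Prime ∧ 0 < k ∧ Nat.card Ω = r ^ k := by
  have : Nonempty Ω := (Nat.card_pos_iff.1 (by omega)).1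
  have n0 : Nat.card Ω ≠ 0 := by omega
  obtain ⟨r, hr, hd⟩ := Nat.exists_prime_and_dvd (by omega : Nat.card Ω ≠ 1)
  have e := Nat.eq_prime_pow_of_unique_prime_dvd n0 (p := r) fun {s} hs hd' => by
    by_contra ne
    have h1 := Nat.mul_le_mul (h.prime_le hs hd') (h.prime_le hr hd)
    have h3 := Nat.le_of_dvd Nat.card_pos (Nat.Coprime.mul_dvd_of_dvd_of_dvd
      (Nat.coprime_pow_primes _ _ hs hr ne) (Nat.ordProj_dvd (Nat.card Ω) s) (Nat.ordProj_dvd (Nat.card Ω) r))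
    rw [sq] at hlt
    omega
  exact ⟨r, _, hr, Nat.pos_of_ne_zero fun z => by rw [z, pow_zero] at e; omega, e⟩

end CL.DI
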